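import Mathlib
import Groth.Agent.FlatX.RelCartier
import Groth.Agent.AlgSpDec.SliceFlat
import Groth.Agent.Div21Lib.StalkIdeal
import Groth.Agent.FibFlat.Stalk
import Groth.Agent.AssLib.Basic
import Groth.Prelude.Def_CurvBase

/-!
A locally principal ideal which is an effective Cartier divisor on all fibres of a flat finitely
presented morphism is a relative effective Cartier divisor.
-/

set_option autoImplicit false
set_option linter.style.haveILetI false
set_option backward.isDefEq.respectTransparency.types false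

universe u

open CategoryTheory AlgebraicGeometry IsLocalRing Polynomial TensorProduct

namespace Groth.Agent.FlatX

/-- An element regular on the fibre at a prime is, near that prime, regular with flat quotient. -/
theorem exists_nzd_flat_quotient {O A : Type u} [CommRing O] [CommRing A] [Algebra O A]
    [Algebra.FinitePresentation O A] [Module.Flat O A] (f : A) (p : Ideal O)
    [p.IsPrime] (Q : Ideal A) [hQ : Q.IsPrime] [Q.LiesOver p] (hf : f ∈ Q)
    (hreg : ∀ t, f * t ∈ FlatModel.sat p ⊥ Q.primeCompl → t ∈ FlatModel.sat p ⊥ Q.primeCompl) :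
    ∃ h ∉ Q, ∀ (A' : Type u) [CommRing A'] [Algebra A A'] [Algebra O A'] [IsScalarTower O A A']
      [IsLocalization.Away h A'], algebraMap A A' f ∈ nonZeroDivisors A' ∧
        Module.Flat O (A' ⧸ Ideal.span {algebraMap A A' f}) := by
  classical
  obtain ⟨W, hW, hQW, hWflat⟩ := FibFlat.affine_main (R := O) (Polynomial.aeval f)
    (⟨Q, hQ⟩ : PrimeSpectrum A) (AlgSpDec.Slice.ff_aeval f p Q hf hreg)
  obtain ⟨U, ⟨h₂, rfl⟩, hQh, hhW⟩ := PrimeSpectrum.isTopologicalBasis_basic_opens.exists_subset_of_mem_open hQW hW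
  refine ⟨h₂, hQh, fun A' _ _ _ _ hloc => ?_⟩
  let φ : O[X] →+* A := (Polynomial.aeval (R := O) f).toRingHom
  letI : Algebra O[X] A' := ((algebraMap A A').comp φ).toAlgebra
  have : IsScalarTower O O[X] A' := IsScalarTower.of_algebraMap_eq fun r => by
    show algebraMap O A' r = algebraMap A A' (φ (algebraMap O O[X] r))
    rw [show φ (algebraMap O O[X] r) = algebraMap O A r from (Polynomial.aeval f).commutes r]
    exact IsScalarTower.algebraMap_apply O A A' r
  have hXflat : Module.Flat O[X] A' := by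
    let j := Spec.map (CommRingCat.ofHom (algebraMap A A'))
    have : IsOpenImmersion j := IsOpenImmersion.of_isLocalization h₂
    have hflat : Flat (j ≫ Spec.map (CommRingCat.ofHom φ)) := by
      refine Flat.of_stalkMap _ fun z => (FibFlat.flat_stalk_open_comp j _ z).2 (hWflat _ (hhW ?_)).2
      have hz : j z ∈ Set.range (PrimeSpectrum.comap (algebraMap A A')) := ⟨z, rfl⟩
      rwa [PrimeSpectrum.localization_away_comap_range A' h₂] at hz
    rw [← Spec.map_comp, HasRingHomProperty.Spec_iff (P := @Flat)] at hflat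
    exact hflat
  refine ⟨?_, ?_⟩
  · have h0 : IsSMulRegular A' (algebraMap O[X] A' X) :=
      IsSMulRegular.of_flat (R := O[X]) (S := A') (x := (X : O[X])) (monic_X.isRegular.left)
    have h1 : algebraMap O[X] A' X = algebraMap A A' f := congrArg (algebraMap A A') (Polynomial.aeval_X f)
    rw [h1] at h0
    exact mem_nonZeroDivisors_iff_right.2 fun z hz => h0 (show algebraMap A A' f * z = algebraMap A A' f * 0 by
      rw [mul_zero, mul_comm]; exact hz)
  · let I : Ideal O[X] := Ideal.span {X}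
    have : Module.Flat (O[X] ⧸ I) ((O[X] ⧸ I) ⊗[O[X]] A') := inferInstance
    have : Module.Flat O (O[X] ⧸ I) :=
      Module.Flat.of_linearEquiv (AlgEquiv.toLinearEquiv
        ((Ideal.quotientEquivAlgOfEq O (show I = Ideal.span {X - C (0 : O)} by simp [I])).trans
          (Polynomial.quotientSpanXSubCAlgEquiv (0 : O))))
    have : Module.Flat O ((O[X] ⧸ I) ⊗[O[X]] A') := Module.Flat.trans O (O[X] ⧸ I) _
    have hIf : I • (⊤ : Submodule O[X] A') = (Ideal.span {algebraMap A A' f}).restrictScalars O[X] := by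
      rw [Ideal.smul_top_eq_map, Ideal.map_span, Set.image_singleton]
      congr 3
      show algebraMap A A' (φ X) = _
      simp [φ]
    let e := (TensorProduct.quotTensorEquivQuotSMul A' I).trans
      ((Submodule.quotEquivOfEq _ _ hIf).trans (Submodule.Quotient.restrictScalarsEquiv O[X] _))
    exact Module.Flat.of_linearEquiv (e.restrictScalars O).symm

variable {X S : Scheme.{u}}

/-- The generator of a locally principal ideal at a point of its support is regular on the fibre. -/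
theorem fibre_regular (φ : X ⟶ S) {I : X.IdealSheafData}
    (hfib : ∀ s : ↥S, BlowUp.IsEffCartierIdeal (I.comap (φ.fiberι s)))
    (U : X.affineOpens) (a : Γ(X, U.1)) (ha : I.ideal U = Ideal.span {a}) (x : X) (hx : x ∈ U.1)
    (c : X.presheaf.stalk x)
    (hc : X.presheaf.germ U.1 x hx a * c ∈ (maximalIdeal _).map (φ.stalkMap x).hom) :
    c ∈ (maximalIdeal _).map (φ.stalkMap x).hom := by
  obtain ⟨w, hw⟩ : ∃ w : ↥(φ.fiber (φ x)), φ.fiberι (φ x) w = x := by
    have h : x ∈ Set.range (φ.fiberι (φ x)) := by rw [Scheme.Hom.range_fiberι]; rfl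
    exact h
  let σ := FibFlat.sm (φ.fiberι (φ x)) w x hw
  have hker : RingHom.ker σ = (maximalIdeal _).map (φ.stalkMap x).hom := by
    rw [FibFlat.ker_sm_fiberι φ (φ x) w x hw, FibFlat.sm_self]
  have hst : Div21Lib.stI (I.comap (φ.fiberι (φ x))) w = Ideal.span {σ (X.presheaf.germ U.1 x hx a)} := by
    have key : ∀ (y : X) (hy : φ.fiberι (φ x) w = y) (hyU : y ∈ U.1),
        Div21Lib.stI (I.comap (φ.fiberι (φ x))) w =
          Ideal.span {FibFlat.sm (φ.fiberι (φ x)) w y hy (X.presheaf.germ U.1 y hyU a)} := by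
      rintro y rfl hyU
      rw [Div21Lib.stI_comap, Div21Lib.stI_eq I U hyU, ha, Ideal.map_span, Ideal.map_span,
        Set.image_singleton, Set.image_singleton, FibFlat.sm_self]
    exact key x hw hx
  obtain ⟨g, hg, hgen⟩ := Div21Lib.exists_stI_generator (hfib (φ x)) w
  rw [hst] at hgen
  obtain ⟨b, hb⟩ := Ideal.mem_span_singleton'.1
    (show g ∈ Ideal.span {σ (X.presheaf.germ U.1 x hx a)} by rw [hgen]; exact Ideal.mem_span_singleton_self g)
  have hnzd : σ (X.presheaf.germ U.1 x hx a) ∈ nonZeroDivisors ((φ.fiber (φ x)).presheaf.stalk w) := by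
    rw [← hb] at hg
    exact (mul_mem_nonZeroDivisors.1 hg).2
  rw [← hker, RingHom.mem_ker] at hc ⊢
  rw [map_mul, mul_comm] at hc
  exact mem_nonZeroDivisors_iff_right.1 hnzd _ hc

/-- Chart near a point of the support. -/
theorem exists_relCartier_chart (φ : X ⟶ S) [Flat φ] [LocallyOfFinitePresentation φ]
    {I : X.IdealSheafData} (hZ : Curv2.IsLocPrincipal I)
    (hfib : ∀ s : ↥S, BlowUp.IsEffCartierIdeal (I.comap (φ.fiberι s))) (x : X) :
    ∃ (W : S.affineOpens) (U : X.affineOpens) (e : U.1 ≤ φ ⁻¹ᵁ W.1),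
      x ∈ U.1 ∧ LocGen I U ∧ (quotApp φ I W U e).Flat := by
  obtain ⟨W, hxW⟩ := exists_chart φ x
  by_cases hxI : x ∈ I.support
  swap
  · obtain ⟨U, hU, hxU, hUO⟩ := exists_isAffineOpen_mem_and_subset (x := x)
      (U := φ ⁻¹ᵁ W.1 ⊓ I.support.compl) ⟨hxW, hxI⟩
    have e : U ≤ φ ⁻¹ᵁ W.1 := fun y hy => (hUO hy).1
    have hI : I.ideal ⟨U, hU⟩ = Ideal.span {1} := by
      rw [Ideal.span_singleton_one]
      by_contra hne
      obtain ⟨M, hM, hle⟩ := Ideal.exists_le_maximal _ hne
      let q : Spec Γ(X, U) := (⟨M, hM.isPrime⟩ : PrimeSpectrum Γ(X, U))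
      have hy : hU.fromSpec q ∈ U := by
        rw [← SetLike.mem_coe, ← hU.range_fromSpec]; exact ⟨q, rfl⟩
      refine (hUO hy).2 ?_
      show hU.fromSpec q ∈ I.support
      rw [Scheme.IdealSheafData.mem_support_iff_of_mem (U := ⟨U, hU⟩) hy, Scheme.mem_zeroLocus_iff]
      intro g hg
      rw [← Scheme.Hom.mem_preimage, hU.fromSpec_preimage_basicOpen]
      exact fun h => h (hle hg)
    refine ⟨W, ⟨U, hU⟩, e, hxU, ⟨1, one_mem _, hI⟩, ?_⟩
    refine flat_congr _ hI.symm ?_
    letI := (φ.appLE W.1 U e).hom.toAlgebra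
    haveI : Subsingleton (Γ(X, U) ⧸ Ideal.span {(1 : Γ(X, U))}) :=
      Ideal.Quotient.subsingleton_iff.2 Ideal.span_singleton_one
    exact RingHom.flat_algebraMap_iff.mpr
      (inferInstance : Module.Flat Γ(S, W.1) (Γ(X, U) ⧸ Ideal.span {(1 : Γ(X, U))}))
  obtain ⟨U₀, hxU₀, a₀, ha₀⟩ := hZ x hxI
  obtain ⟨r, hr, hxr⟩ := U₀.2.exists_basicOpen_le (V := φ ⁻¹ᵁ W.1) ⟨x, hxW⟩ hxU₀
  let U₁ : X.affineOpens := X.affineBasicOpen r
  let a : Γ(X, U₁.1) := X.presheaf.map (homOfLE (X.basicOpen_le r)).op a₀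
  have ha : I.ideal U₁ = Ideal.span {a} := by
    refine (I.map_ideal_basicOpen U₀ r).symm.trans ?_
    rw [ha₀, Ideal.map_span, Set.image_singleton]
    rfl
  let O := Γ(S, W.1)
  let A := Γ(X, U₁.1)
  letI : Algebra O A := (φ.appLE W.1 U₁.1 hr).hom.toAlgebra
  haveI : Module.Flat O A :=
    RingHom.flat_algebraMap_iff.1 (HasRingHomProperty.appLE @Flat φ inferInstance W U₁ hr)
  haveI : Algebra.FinitePresentation O A :=
    HasRingHomProperty.appLE @LocallyOfFinitePresentation φ inferInstance W U₁ hr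
  let Q := (U₁.2.primeIdealOf ⟨x, hxr⟩).asIdeal
  let p := (W.2.primeIdealOf ⟨φ x, hxW⟩).asIdeal
  haveI : Q.LiesOver p := ⟨(congrArg PrimeSpectrum.asIdeal
    (IsAffineOpen.comap_primeIdealOf_appLE (f := φ) W.1 W.2 U₁.1 U₁.2 hr hxr)).symm⟩
  letI := X.presheaf.algebra_section_stalk (⟨x, hxr⟩ : U₁.1)
  haveI : IsLocalization.AtPrime (X.presheaf.stalk x) Q := U₁.2.isLocalization_stalk ⟨x, hxr⟩
  have hm : (maximalIdeal _).map (φ.stalkMap x).hom =
      (p.map (algebraMap O A)).map (algebraMap A (X.presheaf.stalk x)) := by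
    letI := S.presheaf.algebra_section_stalk (⟨φ x, hxW⟩ : W.1)
    haveI : IsLocalization.AtPrime (S.presheaf.stalk (φ x)) p := W.2.isLocalization_stalk ⟨φ x, hxW⟩
    rw [← IsLocalization.AtPrime.map_eq_maximalIdeal p (S.presheaf.stalk (φ x)), Ideal.map_map, Ideal.map_map]
    congr 1
    ext w
    show φ.stalkMap x (S.presheaf.germ W.1 (φ x) hxW w) = X.presheaf.germ U₁.1 x hxr (φ.appLE W.1 U₁.1 hr w)
    rw [Scheme.Hom.germ_stalkMap_apply, Scheme.Hom.appLE, CommRingCat.comp_apply,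
      TopCat.Presheaf.germ_res_apply]
  have haQ : a ∈ Q := by
    by_contra h
    have hu : IsUnit (X.presheaf.germ U₁.1 x hxr a) :=
      IsLocalization.map_units (X.presheaf.stalk x) (⟨a, h⟩ : Q.primeCompl)
    rw [Scheme.IdealSheafData.mem_support_iff_of_mem (U := U₁) hxr, ha, Scheme.zeroLocus_span,
      Scheme.mem_zeroLocus_iff] at hxI
    exact hxI a rfl ((Scheme.mem_basicOpen _ _ _ hxr).mpr hu)
  have hreg : ∀ t, a * t ∈ FlatModel.sat p ⊥ Q.primeCompl → t ∈ FlatModel.sat p ⊥ Q.primeCompl := by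
    rintro t ⟨w, hw, hwt⟩
    rw [bot_sup_eq] at hwt
    have hin : algebraMap A (X.presheaf.stalk x) a * algebraMap A (X.presheaf.stalk x) t ∈
        (p.map (algebraMap O A)).map (algebraMap A (X.presheaf.stalk x)) := by
      obtain ⟨u, hu⟩ := IsLocalization.map_units (X.presheaf.stalk x) (⟨w, hw⟩ : Q.primeCompl)
      rw [← map_mul, ← Ideal.unit_mul_mem_iff_mem _ u.isUnit, hu]
      show algebraMap A (X.presheaf.stalk x) w * _ ∈ _
      rw [← map_mul]
      exact Ideal.mem_map_of_mem _ hwt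
    rw [← hm] at hin
    have := fibre_regular φ hfib U₁ a ha x hxr _ hin
    rw [hm, IsLocalization.mem_map_algebraMap_iff Q.primeCompl] at this
    obtain ⟨⟨⟨c, hc⟩, s⟩, hcs⟩ := this
    rw [← map_mul, IsLocalization.eq_iff_exists Q.primeCompl] at hcs
    obtain ⟨d, hd⟩ := hcs
    refine ⟨d.1 * s.1, mul_mem d.2 s.2, ?_⟩
    rw [bot_sup_eq, show d.1 * s.1 * t = d.1 * (t * s.1) by ring, hd]
    exact Ideal.mul_mem_left _ _ hc
  obtain ⟨h, hhQ, hh⟩ := exists_nzd_flat_quotient a p Q haQ hreg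
  let U : X.affineOpens := X.affineBasicOpen h
  have hxU : x ∈ U.1 :=
    (Scheme.mem_basicOpen _ _ _ hxr).mpr (IsLocalization.map_units (X.presheaf.stalk x) (⟨h, hhQ⟩ : Q.primeCompl))
  have e : U.1 ≤ φ ⁻¹ᵁ W.1 := (X.basicOpen_le h).trans hr
  letI : Algebra A Γ(X, U.1) := (X.presheaf.map (homOfLE (X.basicOpen_le h)).op).hom.toAlgebra
  haveI : IsLocalization.Away h Γ(X, U.1) := U₁.2.isLocalization_basicOpen h
  letI : Algebra O Γ(X, U.1) := (φ.appLE W.1 U.1 e).hom.toAlgebra
  haveI : IsScalarTower O A Γ(X, U.1) := IsScalarTower.of_algebraMap_eq fun w =>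
    (RingHom.congr_fun (congrArg CommRingCat.Hom.hom
      (Scheme.Hom.appLE_map φ hr (homOfLE (X.basicOpen_le h)).op)) w).symm
  obtain ⟨hn, hq⟩ := hh Γ(X, U.1)
  have hI : I.ideal U = Ideal.span {algebraMap A Γ(X, U.1) a} := by
    refine (I.map_ideal_basicOpen U₁ h).symm.trans ?_
    rw [ha, Ideal.map_span, Set.image_singleton]
    rfl
  refine ⟨W, U, e, hxU, ⟨_, hn, hI⟩, flat_congr _ hI.symm ?_⟩
  exact RingHom.flat_algebraMap_iff.mpr hq

end Groth.Agent.FlatX
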