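import Mathlib
import Groth.Agent.FlatX.FibrePrincipal
import Groth.Agent.MorLib.ArtinFlattening

/-!
A flat finitely presented closed subscheme which is an effective Cartier divisor on every fibre is
locally principal.
-/

set_option autoImplicit false
set_option linter.style.haveILetI false
set_option backward.isDefEq.respectTransparency.types false

universe u

open CategoryTheory AlgebraicGeometry IsLocalRing

namespace Groth.Agent.FlatX

variable {X S : Scheme.{u}}

/-- On a chart of a finitely presented closed subscheme of a finitely presented scheme the ideal is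
finitely generated. -/
theorem fg_ideal_chart (φ : X ⟶ S) [LocallyOfFinitePresentation φ] (I : X.IdealSheafData)
    [LocallyOfFinitePresentation (I.subschemeι ≫ φ)] (W : S.affineOpens) (U : X.affineOpens)
    (e : U.1 ≤ φ ⁻¹ᵁ W.1) : (I.ideal U).FG := by
  letI : Algebra Γ(S, W.1) Γ(X, U.1) := (φ.appLE W.1 U.1 e).hom.toAlgebra
  haveI : Algebra.FinitePresentation Γ(S, W.1) Γ(X, U.1) :=
    HasRingHomProperty.appLE @LocallyOfFinitePresentation φ inferInstance W U e
  let V : (I.subscheme).affineOpens := ⟨_, U.2.preimage I.subschemeι⟩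
  have h := HasRingHomProperty.appLE @LocallyOfFinitePresentation (I.subschemeι ≫ φ) inferInstance W V
    (fun _ hy => e hy)
  letI : Algebra Γ(S, W.1) Γ(I.subscheme, V.1) :=
    ((I.subschemeι ≫ φ).appLE W.1 V.1 (fun _ hy => e hy)).hom.toAlgebra
  haveI : Algebra.FinitePresentation Γ(S, W.1) Γ(I.subscheme, V.1) := h
  let π : Γ(X, U.1) →ₐ[Γ(S, W.1)] Γ(I.subscheme, V.1) :=
    { toRingHom := (I.subschemeι.app U.1).hom
      commutes' := fun w => by
        show I.subschemeι.app U.1 (φ.appLE W.1 U.1 e w) = (I.subschemeι ≫ φ).appLE W.1 V.1 _ w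
        rw [show (I.subschemeι ≫ φ).appLE W.1 V.1 (fun _ hy => e hy) =
          φ.appLE W.1 U.1 e ≫ I.subschemeι.app U.1 by
            rw [Scheme.Hom.app_eq_appLE, Scheme.Hom.appLE_comp_appLE]]
        rfl }
  have := Algebra.FinitePresentation.ker_fG_of_surjective π (I.subschemeι_app_surjective U)
  rw [← I.ker_subschemeι_app U]
  exact this

/-- Local principality from the fibres. -/
theorem isLocPrincipal_of_fibres (φ : X ⟶ S) [LocallyOfFinitePresentation φ] (I : X.IdealSheafData)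
    [Flat (I.subschemeι ≫ φ)] [LocallyOfFinitePresentation (I.subschemeι ≫ φ)]
    (hfib : ∀ s : ↥S, BlowUp.IsEffCartierIdeal (I.comap (φ.fiberι s))) : Curv2.IsLocPrincipal I := by
  intro x hxI
  obtain ⟨W, hxW⟩ := exists_chart φ x
  obtain ⟨U₁, hU₁, hxr, hr⟩ := exists_isAffineOpen_mem_and_subset (x := x) (U := φ ⁻¹ᵁ W.1) hxW
  let U : X.affineOpens := ⟨U₁, hU₁⟩
  let O := Γ(S, W.1)
  let A := Γ(X, U.1)
  letI : Algebra O A := (φ.appLE W.1 U.1 hr).hom.toAlgebra
  let J : Ideal A := I.ideal U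
  have hJ : J.FG := fg_ideal_chart φ I W U hr
  haveI : Module.Flat O (A ⧸ J) :=
    RingHom.flat_algebraMap_iff.1 (flat_quotApp φ I inferInstance W U hr)
  let Q := (U.2.primeIdealOf ⟨x, hxr⟩).asIdeal
  let p := (W.2.primeIdealOf ⟨φ x, hxW⟩).asIdeal
  letI := X.presheaf.algebra_section_stalk (⟨x, hxr⟩ : U.1)
  haveI : IsLocalization.AtPrime (X.presheaf.stalk x) Q := U.2.isLocalization_stalk ⟨x, hxr⟩
  let Jx : Ideal (X.presheaf.stalk x) := J.map (algebraMap A (X.presheaf.stalk x))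
  let mS : Ideal (X.presheaf.stalk x) := (maximalIdeal _).map (φ.stalkMap x).hom
  have hm : mS = (p.map (algebraMap O A)).map (algebraMap A (X.presheaf.stalk x)) := by
    letI := S.presheaf.algebra_section_stalk (⟨φ x, hxW⟩ : W.1)
    haveI : IsLocalization.AtPrime (S.presheaf.stalk (φ x)) p := W.2.isLocalization_stalk ⟨φ x, hxW⟩
    show Ideal.map _ _ = _
    rw [← IsLocalization.AtPrime.map_eq_maximalIdeal p (S.presheaf.stalk (φ x)), Ideal.map_map, Ideal.map_map]
    congr 1
    ext w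
    show φ.stalkMap x (S.presheaf.germ W.1 (φ x) hxW w) = X.presheaf.germ U.1 x hxr (φ.appLE W.1 U.1 hr w)
    rw [Scheme.Hom.germ_stalkMap_apply, Scheme.Hom.appLE, CommRingCat.comp_apply,
      TopCat.Presheaf.germ_res_apply]
  -- flatness of the quotient
  have hpJ : ∀ t ∈ J, t ∈ p.map (algebraMap O A) → t ∈ p.map (algebraMap O A) * J := by
    intro t htJ htp
    have hker : LinearMap.ker (Ideal.Quotient.mkₐ O J).toLinearMap = J.restrictScalars O := by
      ext y; exact Ideal.Quotient.eq_zero_iff_mem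
    have h := MorLib.ArtinFlat.mem_smul_ker_of_flat (Ideal.Quotient.mkₐ O J).toLinearMap
      Ideal.Quotient.mk_surjective p t (by rw [hker]; exact htJ)
      (by rw [Ideal.smul_top_eq_map]; exact htp)
    rw [hker] at h
    refine Submodule.smul_induction_on h (fun c hc y hy => ?_) (fun a b ha hb => add_mem ha hb)
    rw [Algebra.smul_def]
    exact Ideal.mul_mem_mul (Ideal.mem_map_of_mem _ hc) hy
  have hint : ∀ t ∈ Jx, t ∈ mS → t ∈ maximalIdeal (X.presheaf.stalk x) • Jx := by
    intro t ht htm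
    obtain ⟨⟨⟨i, hi⟩, s⟩, hs⟩ := (IsLocalization.mem_map_algebraMap_iff Q.primeCompl _).1 ht
    rw [hm] at htm
    obtain ⟨⟨⟨q, hq⟩, s'⟩, hs'⟩ := (IsLocalization.mem_map_algebraMap_iff Q.primeCompl _).1 htm
    have heq : algebraMap A (X.presheaf.stalk x) (i * s'.1) = algebraMap A (X.presheaf.stalk x) (q * s.1) := by
      rw [map_mul, map_mul, ← hs, ← hs']
      ring
    obtain ⟨d, hd⟩ := (IsLocalization.eq_iff_exists Q.primeCompl _).1 heq
    have h1 : d.1 * (i * s'.1) ∈ p.map (algebraMap O A) * J := by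
      refine hpJ _ (Ideal.mul_mem_left _ _ (Ideal.mul_mem_right _ _ hi)) ?_
      rw [hd]
      exact Ideal.mul_mem_left _ _ (Ideal.mul_mem_right _ _ hq)
    have h2 : algebraMap A (X.presheaf.stalk x) (d.1 * (i * s'.1)) ∈ mS * Jx := by
      rw [hm, ← Ideal.map_mul]
      exact Ideal.mem_map_of_mem _ h1
    rw [map_mul, map_mul, ← hs, show algebraMap A (X.presheaf.stalk x) d.1 *
      (t * algebraMap A (X.presheaf.stalk x) s.1 * algebraMap A (X.presheaf.stalk x) s'.1) =
        (algebraMap A (X.presheaf.stalk x) d.1 * algebraMap A (X.presheaf.stalk x) s.1 *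
          algebraMap A (X.presheaf.stalk x) s'.1) * t by ring,
      Ideal.unit_mul_mem_iff_mem _ (((IsLocalization.map_units _ d).mul (IsLocalization.map_units _ s)).mul
        (IsLocalization.map_units _ s'))] at h2
    refine Ideal.mul_mono_left ?_ h2
    exact Ideal.map_le_iff_le_comap.2 fun a ha => by
      show φ.stalkMap x a ∈ maximalIdeal _
      exact fun hu => ha ((isUnit_map_iff (φ.stalkMap x).hom a).1 hu)
  -- the fibre
  obtain ⟨w, hw⟩ : ∃ w : ↥(φ.fiber (φ x)), φ.fiberι (φ x) w = x := by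
    have h : x ∈ Set.range (φ.fiberι (φ x)) := by rw [Scheme.Hom.range_fiberι]; rfl
    exact h
  let σ := FibFlat.sm (φ.fiberι (φ x)) w x hw
  have hσ : Function.Surjective σ := FibFlat.surjective_sm w x hw
  have hkerσ : RingHom.ker σ = mS := by
    rw [FibFlat.ker_sm_fiberι φ (φ x) w x hw, FibFlat.sm_self]
  have hst : Div21Lib.stI (I.comap (φ.fiberι (φ x))) w = Jx.map σ := by
    have key : ∀ (y : X) (hy : φ.fiberι (φ x) w = y) (hyU : y ∈ U.1),
        Div21Lib.stI (I.comap (φ.fiberι (φ x))) w =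
          ((I.ideal U).map (X.presheaf.germ U.1 y hyU).hom).map (FibFlat.sm (φ.fiberι (φ x)) w y hy) := by
      rintro y rfl hyU
      rw [Div21Lib.stI_comap, Div21Lib.stI_eq I U hyU, FibFlat.sm_self]
    exact key x hw hxr
  obtain ⟨g, -, hgen⟩ := Div21Lib.exists_stI_generator (hfib (φ x)) w
  rw [hst] at hgen
  obtain ⟨g₀, hg₀, hg₀g⟩ := (Ideal.mem_map_iff_of_surjective σ hσ).1
    (show g ∈ Jx.map σ by rw [hgen]; exact Ideal.mem_span_singleton_self g)
  have hle : Jx ≤ Ideal.span {g₀} ⊔ maximalIdeal (X.presheaf.stalk x) • Jx := by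
    intro t ht
    have h : σ t ∈ Ideal.span {g} := hgen ▸ Ideal.mem_map_of_mem σ ht
    obtain ⟨c, hc⟩ := Ideal.mem_span_singleton'.1 h
    obtain ⟨c₀, rfl⟩ := hσ c
    refine Submodule.mem_sup.2 ⟨c₀ * g₀, Ideal.mul_mem_left _ _ (Ideal.mem_span_singleton_self g₀), t - c₀ * g₀,
      hint _ (Ideal.sub_mem _ ht (Ideal.mul_mem_left _ _ hg₀)) ?_, by ring⟩
    rw [← hkerσ, RingHom.mem_ker, map_sub, map_mul, hg₀g, hc, sub_self]
  have hJx : Jx = Ideal.span {g₀} := le_antisymm
    (Submodule.le_of_le_smul_of_le_jacobson_bot (hJ.map _) (IsLocalRing.maximalIdeal_le_jacobson _) hle)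
    ((Ideal.span_singleton_le_iff_mem _).2 hg₀)
  -- spreading out
  obtain ⟨⟨⟨a, ha⟩, s⟩, hs⟩ := (IsLocalization.mem_map_algebraMap_iff Q.primeCompl _).1 hg₀
  have hex : ∀ b ∈ J, ∃ h ∉ Q, h * b ∈ Ideal.span {a} := by
    intro b hb
    obtain ⟨c, hc⟩ := Ideal.mem_span_singleton'.1
      (show algebraMap A (X.presheaf.stalk x) b ∈ Ideal.span {g₀} from hJx ▸ Ideal.mem_map_of_mem _ hb)
    obtain ⟨c', t, rfl⟩ := IsLocalization.exists_mk'_eq Q.primeCompl c
    have heq : algebraMap A (X.presheaf.stalk x) (b * t.1 * s.1) =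
        algebraMap A (X.presheaf.stalk x) (c' * a) := by
      rw [map_mul, map_mul, map_mul, ← hc, ← hs, ← IsLocalization.mk'_spec (X.presheaf.stalk x) c' t]
      ring
    obtain ⟨d, hd⟩ := (IsLocalization.eq_iff_exists Q.primeCompl _).1 heq
    refine ⟨d.1 * (t.1 * s.1), fun h => (Ideal.IsPrime.mem_or_mem inferInstance h).elim d.2 fun h =>
      (Ideal.IsPrime.mem_or_mem inferInstance h).elim t.2 s.2, ?_⟩
    rw [show d.1 * (t.1 * s.1) * b = d.1 * (b * t.1 * s.1) by ring, hd, ← mul_assoc]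
    exact Ideal.mul_mem_left _ _ (Ideal.mem_span_singleton_self a)
  obtain ⟨G, hG⟩ := hJ
  choose! hh hh1 hh2 using hex
  let h : A := ∏ b ∈ G, hh b
  have hGJ : ∀ b ∈ G, b ∈ J := fun b hb => hG ▸ Ideal.subset_span hb
  have hhQ : h ∉ Q := show h ∈ Q.primeCompl from prod_mem fun b hb => hh1 b (hGJ b hb)
  refine ⟨X.affineBasicOpen h,
    (Scheme.mem_basicOpen _ _ _ hxr).mpr (IsLocalization.map_units (X.presheaf.stalk x) (⟨h, hhQ⟩ : Q.primeCompl)),
    X.presheaf.map (homOfLE (X.basicOpen_le h)).op a, ?_⟩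
  refine (I.map_ideal_basicOpen U h).symm.trans (le_antisymm ?_ ?_)
  · show J.map _ ≤ _
    rw [← hG, Ideal.map_span, Ideal.span_le]
    rintro _ ⟨b, hb, rfl⟩
    obtain ⟨k, hk⟩ := Finset.dvd_prod_of_mem hh hb
    obtain ⟨c, hc⟩ := Ideal.mem_span_singleton'.1 (hh2 b (hGJ b hb))
    have hu : IsUnit (X.presheaf.map (homOfLE (X.basicOpen_le h)).op h) :=
      haveI := U.2.isLocalization_basicOpen h
      IsLocalization.Away.algebraMap_isUnit (S := Γ(X, X.basicOpen h)) h
    rw [SetLike.mem_coe, ← Ideal.unit_mul_mem_iff_mem _ hu, ← map_mul, show h * b = k * c * a by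
      show (∏ b ∈ G, hh b) * b = _
      rw [hk, mul_comm (hh b), mul_assoc, ← hc, mul_assoc], map_mul]
    exact Ideal.mul_mem_left _ _ (Ideal.mem_span_singleton_self _)
  · exact Ideal.span_le.2 (Set.singleton_subset_iff.2 (Ideal.mem_map_of_mem _ ha))

end Groth.Agent.FlatX
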