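import Mathlib
import Groth.Agent.KRegLib.FibreBC
import Groth.Agent.KRegLib.Kinds
import Groth.Agent.RegKinds.Imm
import Groth.Agent.Triage.SliceFlatSch

/-!
Relative quasi-regular immersions into flat finitely presented schemes are transversally regular, hence
regular immersions after every base change.
-/

set_option autoImplicit false
set_option linter.style.haveILetI false
set_option backward.isDefEq.respectTransparency.types false
set_option synthInstance.maxHeartbeats 100000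

universe u

open CategoryTheory CategoryTheory.Limits AlgebraicGeometry IsLocalRing RingTheory.Sequence
open Groth.Agent.KRegLib Groth.Agent.RegImmLib

namespace Groth.Agent.FlatX

/-- A quasi-regular sequence with flat quotient is transversally regular near each of its zeros. -/
theorem exists_transRegular {O A : Type u} [CommRing O] [CommRing A] [Algebra O A]
    [Algebra.FinitePresentation O A] [Module.Flat O A] {n : ℕ} (f : Fin n → A)
    (hq : CAlgX.IsQuasiRegular f) [Module.Flat O (A ⧸ Ideal.span (Set.range f))]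
    (p : Ideal O) [p.IsPrime] (q : Ideal (p.Fiber A)) [q.IsPrime]
    (hfQ : ∀ i, f i ∈ fibBase p q) :
    ∃ g ∉ fibBase p q, ∀ (T : Type u) [CommRing T] [Algebra A T] [Algebra O T] [IsScalarTower O A T]
      [Module.Flat A T], IsUnit (algebraMap A T g) →
        RegImm.IsTransRegularSeq O T (List.ofFn fun i => algebraMap A T (f i)) := by
  classical
  let F := Localization.AtPrime q
  let φ := toFib p q
  haveI : IsNoetherianRing (p.Fiber A) := Algebra.FiniteType.isNoetherianRing p.ResidueField _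
  haveI : IsNoetherianRing F := IsLocalization.isNoetherianRing q.primeCompl F ‹IsNoetherianRing (p.Fiber A)›
  let fs := List.ofFn f
  have hmem : ∀ i, φ (f i) ∈ maximalIdeal F := fun i =>
    map_toFib_le_maximalIdeal p (fibBase p q) q le_rfl (Ideal.mem_map_of_mem _ (hfQ i))
  have hwr : IsWeaklyRegular F (fs.map φ) := by
    rw [show fs.map φ = List.ofFn fun i => φ (f i) from List.map_ofFn ..]
    refine LinType.isWeaklyRegular_of_isQuasiRegular n F _ (fun i => ?_)
      (QRegBC.isQuasiRegular_localization (R := F) q.primeCompl _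
        (QRegBC.isQuasiRegular_baseChange (A := O) f p.ResidueField hq))
    rw [IsLocalRing.ringJacobson_eq_maximalIdeal]
    exact hmem i
  have hfs : ∀ x ∈ fs, x ∈ fibBase p q := fun x hx => by
    obtain ⟨i, rfl⟩ := List.mem_ofFn.1 hx
    exact hfQ i
  obtain ⟨g, hg, hgood⟩ := Triage.SliceFlat.exists_slice (O := O) p (fibBase p q) fs hfs fun i hi t ht => by
    refine mem_sat_of_toFib_mem p _ q t ?_
    obtain ⟨w, hw, hwt⟩ := ht
    have h1 := Ideal.mem_map_of_mem φ hwt
    rw [Ideal.map_sup, map_toFib_eq_bot, sup_bot_eq, map_mul,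
      Ideal.unit_mul_mem_iff_mem _ (isUnit_toFib p q w hw), map_mul] at h1
    have hI' : (Ideal.ofList ((fs.map φ).take i) • ⊤ : Submodule F F) = (Ideal.ofList (fs.take i)).map φ := by
      rw [← List.map_take, ← Ideal.map_ofList, Ideal.smul_eq_mul, Ideal.mul_top]
    have h2 := hwr.regular_mod_prev i (by simpa using hi)
    have h3 : Submodule.Quotient.mk (p := (Ideal.ofList ((fs.map φ).take i) • ⊤ : Submodule F F)) (φ t) = 0 := by
      refine h2.right_eq_zero_of_smul ?_
      rw [← Submodule.Quotient.mk_smul, Submodule.Quotient.mk_eq_zero, hI', smul_eq_mul, List.getElem_map]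
      exact h1
    rwa [Submodule.Quotient.mk_eq_zero, hI'] at h3
  refine ⟨g, hg, fun T _ _ _ _ _ hu => ?_⟩
  obtain ⟨h1, h2⟩ := hgood T hu
  have he : (List.ofFn fun i => algebraMap A T (f i)) = fs.map (algebraMap A T) := (List.map_ofFn ..).symm
  rw [he]
  refine ⟨h1, fun j _ => ?_⟩
  rw [← List.map_take, ← Ideal.map_ofList]
  exact h2 j

variable {Z X S : Scheme.{u}}

/-- Flatness on sections from flatness of all the local rings. -/
theorem flat_appLE_of_flat_stalks (f : X ⟶ S) {V : S.Opens} (hV : IsAffineOpen V) {U : X.Opens}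
    (hU : IsAffineOpen U) (e : U ≤ f ⁻¹ᵁ V) (h : ∀ x ∈ U, (f.stalkMap x).hom.Flat) :
    (f.appLE V U e).hom.Flat := by
  have h1 : Flat (U.ι ≫ f) :=
    Flat.of_stalkMap _ fun z => (FibFlat.flat_stalk_open_comp U.ι f z).2 (h z.1 z.2)
  have h2 : Flat (Spec.map (f.appLE V U e) ≫ hV.fromSpec) := by
    rw [IsAffineOpen.SpecMap_appLE_fromSpec f hV hU e, ← hU.isoSpec_inv_ι, Category.assoc]
    infer_instance
  have h3 : Flat (Spec.map (f.appLE V U e)) := Flat.of_stalkMap _ fun z => by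
    have h := Flat.stalkMap (Spec.map (f.appLE V U e) ≫ hV.fromSpec) z
    rw [Scheme.Hom.stalkMap_comp] at h
    have hiso : ∀ w : Spec Γ(S, V), IsIso (hV.fromSpec.stalkMap w) := fun w => inferInstance
    exact (@FlatLocus.flat_isIso_comp _ _ _ _ (hiso _) _).1 h
  exact (HasRingHomProperty.Spec_iff (P := @Flat)).1 h3

/-- A relative quasi-regular immersion into a flat finitely presented scheme is transversally regular. -/
theorem transRegularAt_of_quasiAt (f : X ⟶ S) [LocallyOfFinitePresentation f] (i : Z ⟶ X)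
    [Flat (i ≫ f)] (z : Z) (hat : RegImm.IsRegularImmersionAt RegImm.Kind.quasi i z) (hx : (f.stalkMap (i z)).hom.Flat) :
    RegImm.IsTransRegularImmersionAt f i z := by
  classical
  obtain ⟨U, hzU, hci, rs, hrs, hker⟩ := hat
  obtain ⟨V, hV, hzV, -⟩ := exists_isAffineOpen_mem_and_subset (X := S) (x := f (i z)) (U := ⊤) trivial
  let F : X.Opens := ⟨{x | (f.stalkMap x).hom.Flat}, FlatLocus.isOpen_flat_locus f⟩
  obtain ⟨g₁, hg₁', hzg₁⟩ := U.2.exists_basicOpen_le (V := f ⁻¹ᵁ V ⊓ F) ⟨i z, hzV, hx⟩ hzU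
  have hg₁ := hg₁'.trans inf_le_left
  obtain ⟨hU', hUs⟩ := Synt29.surjective_app_of_isClosedImmersion_restrict i U.1 U.2
  let U₁ := X.basicOpen g₁
  have hU₁ : IsAffineOpen U₁ := U.2.basicOpen g₁
  letI : Algebra Γ(X, U.1) Γ(X, U₁) := (X.presheaf.map (homOfLE (X.basicOpen_le g₁)).op).hom.toAlgebra
  haveI : IsLocalization.Away g₁ Γ(X, U₁) := U.2.isLocalization_basicOpen g₁
  let fl : Fin rs.length → Γ(X, U₁) := fun j => algebraMap Γ(X, U.1) Γ(X, U₁) (rs.get j)
  have hq : CAlgX.IsQuasiRegular fl :=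
    QRegBC.isQuasiRegular_localization (R := Γ(X, U₁)) (Submonoid.powers g₁) rs.get hrs
  obtain ⟨hs₁, hU₁', hk₁⟩ := app_basicOpen_props i U.2 hU' hUs g₁
  have hker₁ : RingHom.ker (i.app U₁).hom = Ideal.span (Set.range fl) := by
    refine hk₁.trans ?_
    rw [hker, show Ideal.ofList rs = Ideal.span (Set.range rs.get) from by rw [Ideal.ofList, Set.range_list_get],
      Ideal.map_span, ← Set.range_comp]
    rfl
  let O := Γ(S, V)
  let A := Γ(X, U₁)
  letI : Algebra O A := (f.appLE V U₁ hg₁).hom.toAlgebra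
  haveI : Module.Flat O A :=
    RingHom.flat_algebraMap_iff.1 (flat_appLE_of_flat_stalks f hV hU₁ hg₁ fun y hy => (hg₁' hy).2)
  haveI : Algebra.FinitePresentation O A :=
    HasRingHomProperty.appLE @LocallyOfFinitePresentation f inferInstance ⟨V, hV⟩ ⟨U₁, hU₁⟩ hg₁
  haveI : Module.Flat O (A ⧸ Ideal.span (Set.range fl)) := by
    have e' : i ⁻¹ᵁ U₁ ≤ (i ≫ f) ⁻¹ᵁ V := fun _ hy => hg₁ hy
    letI : Algebra O Γ(Z, i ⁻¹ᵁ U₁) := ((i ≫ f).appLE V (i ⁻¹ᵁ U₁) e').hom.toAlgebra
    haveI : Module.Flat O Γ(Z, i ⁻¹ᵁ U₁) := RingHom.flat_algebraMap_iff.1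
      (HasRingHomProperty.appLE @Flat (i ≫ f) inferInstance ⟨V, hV⟩ ⟨_, hU₁'⟩ e')
    let π : A →ₐ[O] Γ(Z, i ⁻¹ᵁ U₁) :=
      { toRingHom := (i.app U₁).hom
        commutes' := fun w => by
          show i.app U₁ (f.appLE V U₁ hg₁ w) = (i ≫ f).appLE V (i ⁻¹ᵁ U₁) e' w
          rw [show (i ≫ f).appLE V (i ⁻¹ᵁ U₁) e' = f.appLE V U₁ hg₁ ≫ i.app U₁ by
            rw [Scheme.Hom.app_eq_appLE, Scheme.Hom.appLE_comp_appLE]]
          rfl }
    exact Module.Flat.of_linearEquiv ((Ideal.quotientEquivAlgOfEq O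
      (show Ideal.span (Set.range fl) = RingHom.ker π from hker₁.symm)).trans
      (Ideal.quotientKerAlgEquivOfSurjective (f := π) hs₁)).toLinearEquiv
  let Q := (hU₁.primeIdealOf ⟨i z, hzg₁⟩).asIdeal
  let p := (hV.primeIdealOf ⟨f (i z), hzV⟩).asIdeal
  have hQp : Q.comap (algebraMap O A) = p := congrArg PrimeSpectrum.asIdeal
    (IsAffineOpen.comap_primeIdealOf_appLE (f := f) V hV U₁ hU₁ hg₁ hzg₁)
  obtain ⟨q, hqp, hqQ⟩ := exists_fib_point p Q hQp
  have hfQ : ∀ j, fl j ∈ fibBase p q := fun j => by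
    rw [hqQ]
    exact ker_app_le_primeIdealOf i hU₁ hU₁' z hzg₁ (hker₁ ▸ Ideal.subset_span ⟨j, rfl⟩)
  obtain ⟨g, hg, hgood⟩ := exists_transRegular fl hq p q hfQ
  rw [hqQ] at hg
  let U₂ := X.basicOpen g
  have hU₂ : IsAffineOpen U₂ := hU₁.basicOpen g
  letI : Algebra A Γ(X, U₂) := (X.presheaf.map (homOfLE (X.basicOpen_le g)).op).hom.toAlgebra
  haveI : IsLocalization.Away g Γ(X, U₂) := hU₁.isLocalization_basicOpen g
  haveI : Module.Flat A Γ(X, U₂) := IsLocalization.flat _ (Submonoid.powers g)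
  have e : U₂ ≤ f ⁻¹ᵁ V := (X.basicOpen_le g).trans hg₁
  letI : Algebra O Γ(X, U₂) := (f.appLE V U₂ e).hom.toAlgebra
  haveI : IsScalarTower O A Γ(X, U₂) := IsScalarTower.of_algebraMap_eq fun w =>
    (RingHom.congr_fun (congrArg CommRingCat.Hom.hom
      (Scheme.Hom.appLE_map f hg₁ (homOfLE (X.basicOpen_le g)).op)) w).symm
  have hzU₂ : i z ∈ U₂ := by
    rw [show U₂ = X.basicOpen g from rfl, ← hU₁.fromSpec_image_basicOpen g]
    exact ⟨hU₁.primeIdealOf ⟨i z, hzg₁⟩, hg, hU₁.fromSpec_primeIdealOf _⟩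
  haveI := isClosedImmersion_restrict_of_le i (X.basicOpen_le g₁)
  refine ⟨⟨U₂, hU₂⟩, ⟨V, hV⟩, e, hzU₂, isClosedImmersion_restrict_of_le i (X.basicOpen_le g),
    _, hgood Γ(X, U₂) (IsLocalization.Away.algebraMap_isUnit g), ?_⟩
  refine (app_basicOpen_props i hU₁ hU₁' hs₁ g).2.2.trans ?_
  rw [hker₁, Ideal.map_span, ← Set.range_comp, ← RegImmLib.span_range_eq_ofList]
  rfl

theorem transRegularAt_of_relQuasi' (f : X ⟶ S) [LocallyOfFinitePresentation f] (i : Z ⟶ X)
    (hi : RegImm.IsRelRegularImmersion RegImm.Kind.quasi f i) (z : Z) (hx : (f.stalkMap (i z)).hom.Flat) :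
    RegImm.IsTransRegularImmersionAt f i z :=
  haveI := hi.2
  transRegularAt_of_quasiAt f i z (hi.1.2 z) hx

/-- A base change of a transversally regular immersion is regular at each point. -/
theorem regImmAt_baseChange_of_trans (f : X ⟶ S) (i : Z ⟶ X) {S' : Scheme.{u}} (g : S' ⟶ S)
    (z' : ↥(pullback i (pullback.fst f g)))
    (h : RegImm.IsTransRegularImmersionAt f i (pullback.fst i (pullback.fst f g) z')) :
    RegImm.IsRegularImmersionAt RegImm.Kind.regular (pullback.snd i (pullback.fst f g)) z' := by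
  obtain ⟨⟨U, hU⟩, ⟨V, hV⟩, e, hzU, hci, rs, ⟨hwr, hfl⟩, hker⟩ := h
  have hsq := IsPullback.of_hasPullback i (pullback.fst f g)
  let i' := pullback.snd i (pullback.fst f g)
  let x' := i' z'
  have hx : pullback.fst f g x' ∈ U := by
    have h1 : pullback.fst f g x' = i (pullback.fst i (pullback.fst f g) z') :=
      (congrArg (fun φ : pullback i (pullback.fst f g) ⟶ X => φ z') hsq.w).symm
    rw [h1]
    exact hzU
  have hwV : g (pullback.snd f g x') ∈ V := by
    rw [← Scheme.Hom.comp_apply, ← pullback.condition, Scheme.Hom.comp_apply]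
    exact e hx
  obtain ⟨W, hW, hwW, hWle⟩ := exists_isAffineOpen_mem_and_subset (X := S') (x := pullback.snd f g x')
    (U := g ⁻¹ᵁ V) hwV
  replace hWle : W ≤ g ⁻¹ᵁ V := hWle
  let U' := pullback.fst f g ⁻¹ᵁ U ⊓ pullback.snd f g ⁻¹ᵁ W
  haveI := isIso_pushoutSection_of_isAffineOpen (IsPullback.of_hasPullback f g) hWle e (UY := U') rfl hV hW hU
  have hU' : IsAffineOpen U' := by
    have : IsAffine _ := hV
    have : IsAffine _ := hW
    have : IsAffine _ := hU
    exact .of_isIso (Scheme.Hom.isPullback_resLE (IsPullback.of_hasPullback f g) hWle e (UY := U') rfl).isoPullback.hom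
  have sqR := (isIso_pushoutSection_iff (IsPullback.of_hasPullback f g) hWle e (UY := U') rfl).1 ‹_›
  have hle : U' ≤ pullback.fst f g ⁻¹ᵁ U := inf_le_left
  have hzU' : x' ∈ U' := ⟨hx, hwW⟩
  obtain ⟨hUY, hUs⟩ := Synt29.surjective_app_of_isClosedImmersion_restrict i U hU
  have hUY' : i' ⁻¹ᵁ U' = pullback.fst i (pullback.fst f g) ⁻¹ᵁ (i ⁻¹ᵁ U) ⊓ i' ⁻¹ᵁ U' := by
    refine (inf_eq_right.2 fun y hy => ?_).symm
    show i (pullback.fst i (pullback.fst f g) y) ∈ U
    have h1 : i (pullback.fst i (pullback.fst f g) y) = pullback.fst f g (i' y) :=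
      congrArg (fun φ : pullback i (pullback.fst f g) ⟶ X => φ y) hsq.w
    rw [h1]
    exact hle hy
  have hpo := (isIso_pushoutSection_iff hsq hle le_rfl hUY').1
    (isIso_pushoutSection_of_isAffineOpen hsq hle le_rfl hUY' hU hU' hUY)
  have hs : Function.Surjective (i.appLE U (i ⁻¹ᵁ U) le_rfl) := by
    rw [← Scheme.Hom.app_eq_appLE]
    exact hUs
  have hk := RegImmLib.ker_of_isPushout hpo hs
  rw [← Scheme.Hom.app_eq_appLE, ← Scheme.Hom.app_eq_appLE] at hk
  have hci' : IsClosedImmersion (i' ∣_ U') := by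
    have h2 := Scheme.Hom.isPullback_resLE hsq hle le_rfl hUY'
    have h3 : IsClosedImmersion (i.resLE U (i ⁻¹ᵁ U) le_rfl) := by
      rw [Scheme.Hom.resLE_eq_morphismRestrict]
      exact hci
    rw [← Scheme.Hom.resLE_eq_morphismRestrict]
    exact MorphismProperty.of_isPullback (P := @IsClosedImmersion) h2 h3
  let β := (pullback.fst f g).appLE U U' hle
  have hker' : RingHom.ker (i'.app U').hom = Ideal.ofList (rs.map β) := by
    refine hk.trans ?_
    rw [hker, ← Ideal.map_ofList]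
  refine ⟨⟨U', hU'⟩, hzU', hci', rs.map β, ⟨?_, ?_⟩, hker'⟩
  · letI : Algebra Γ(S, V) Γ(X, U) := (f.appLE V U e).hom.toAlgebra
    letI : Algebra Γ(S, V) Γ(S', W) := (g.appLE V W hWle).hom.toAlgebra
    letI : Algebra Γ(X, U) Γ(pullback f g, U') := β.hom.toAlgebra
    letI : Algebra Γ(S', W) Γ(pullback f g, U') := ((pullback.snd f g).appLE W U' inf_le_right).hom.toAlgebra
    letI : Algebra Γ(S, V) Γ(pullback f g, U') := (f.appLE V U e ≫ β).hom.toAlgebra
    haveI : IsScalarTower Γ(S, V) Γ(X, U) Γ(pullback f g, U') := IsScalarTower.of_algebraMap_eq fun _ => rfl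
    haveI : IsScalarTower Γ(S, V) Γ(S', W) Γ(pullback f g, U') := IsScalarTower.of_algebraMap_eq fun r =>
      congrArg (fun k => k.hom r) sqR.w
    haveI : Algebra.IsPushout Γ(S, V) Γ(S', W) Γ(X, U) Γ(pullback f g, U') :=
      CommRingCat.isPushout_iff_isPushout.1 sqR.flip
    refine Triage.SliceFlat.isWeaklyRegular_baseChange (O := Γ(S, V)) Γ(S', W) rs hwr fun j => ?_
    by_cases hj : j ≤ rs.length
    · exact hfl j hj
    · have h := hfl rs.length le_rfl
      rw [List.take_length] at h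
      rw [List.take_of_length_le (le_of_not_ge hj)]
      exact h
  · haveI : Nonempty (i' ⁻¹ᵁ U') := ⟨⟨z', hzU'⟩⟩
    haveI : Nontrivial Γ(pullback i (pullback.fst f g), i' ⁻¹ᵁ U') := inferInstance
    rw [smul_eq_mul, Ideal.mul_top, ← hker']
    exact (RingHom.ker_ne_top _).symm

/-- A transversally regular point is a regular point. -/
theorem regImmAt_of_trans (f : X ⟶ S) (i : Z ⟶ X) (z : Z) (h : RegImm.IsTransRegularImmersionAt f i z) :
    RegImm.IsRegularImmersionAt RegImm.Kind.regular i z := by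
  obtain ⟨U, V, e, hzU, hci, rs, ⟨hwr, -⟩, hker⟩ := h
  refine ⟨U, hzU, hci, rs, ⟨hwr, ?_⟩, hker⟩
  haveI : Nonempty (i ⁻¹ᵁ U.1) := ⟨⟨z, hzU⟩⟩
  haveI : Nontrivial Γ(Z, i ⁻¹ᵁ U.1) := inferInstance
  rw [smul_eq_mul, Ideal.mul_top, ← hker]
  exact (RingHom.ker_ne_top _).symm

/-- Regular immersion after every base change. -/
theorem regular_of_relQuasi' (f : X ⟶ S) [LocallyOfFinitePresentation f] (i : Z ⟶ X)
    (hi : RegImm.IsRelRegularImmersion RegImm.Kind.quasi f i) (hx : ∀ z, (f.stalkMap (i z)).hom.Flat) :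
    RegImm.IsRegularImmersion RegImm.Kind.regular i ∧ ∀ (S' : Scheme.{u}) (g : S' ⟶ S),
      RegImm.IsRegularImmersion RegImm.Kind.regular (pullback.snd i (pullback.fst f g)) :=
  ⟨⟨hi.1.1, fun z => regImmAt_of_trans f i z (transRegularAt_of_relQuasi' f i hi z (hx z))⟩, fun _ g =>
    ⟨MorphismProperty.of_isPullback (P := @IsImmersion) (IsPullback.of_hasPullback i (pullback.fst f g)) hi.1.1,
      fun z' => regImmAt_baseChange_of_trans f i g z' (transRegularAt_of_relQuasi' f i hi _ (hx _))⟩⟩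

theorem transRegularAt_of_relQuasi (f : X ⟶ S) [Flat f] [LocallyOfFinitePresentation f] (i : Z ⟶ X)
    (hi : RegImm.IsRelRegularImmersion RegImm.Kind.quasi f i) (z : Z) :
    RegImm.IsTransRegularImmersionAt f i z :=
  transRegularAt_of_relQuasi' f i hi z (Flat.stalkMap f (i z))

theorem regular_of_relQuasi (f : X ⟶ S) [Flat f] [LocallyOfFinitePresentation f] (i : Z ⟶ X)
    (hi : RegImm.IsRelRegularImmersion RegImm.Kind.quasi f i) :
    RegImm.IsRegularImmersion RegImm.Kind.regular i ∧ ∀ (S' : Scheme.{u}) (g : S' ⟶ S),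
      RegImm.IsRegularImmersion RegImm.Kind.regular (pullback.snd i (pullback.fst f g)) :=
  regular_of_relQuasi' f i hi fun z => Flat.stalkMap f (i z)

end Groth.Agent.FlatX
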