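import Mathlib
import Groth.Agent.FlatX.FibrePrincipal2
import Groth.Agent.FlatX.RelQuasi
import Groth.Agent.KRegLib.FibreBC
import Groth.Agent.KRegLib.Kinds
import Groth.Agent.RegImmLib.RegStalk
import Groth.Agent.S18944

/-!
Fibrewise criterion for relative quasi-regular immersions.
-/

set_option autoImplicit false
set_option linter.style.haveILetI false
set_option backward.isDefEq.respectTransparency.types false
set_option synthInstance.maxHeartbeats 100000

universe u

open CategoryTheory CategoryTheory.Limits AlgebraicGeometry IsLocalRing RingTheory.Sequence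
open Groth.Agent.WiebeLib

namespace Groth.Agent.FlatX

/-- The local ring of the fibre is the quotient of the local ring by the extended prime. -/
theorem exists_fibre_projection {O A : Type u} [CommRing O] [CommRing A] [Algebra O A] (p : Ideal O)
    [p.IsPrime] (q : Ideal (p.Fiber A)) [q.IsPrime] (T : Type u) [CommRing T] [Algebra A T]
    [IsLocalization.AtPrime T (KRegLib.fibBase p q)] :
    ∃ χ : T →+* Localization.AtPrime q, χ.comp (algebraMap A T) = KRegLib.toFib p q ∧
      Function.Surjective χ ∧ RingHom.ker χ = (p.map (algebraMap O A)).map (algebraMap A T) := by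
  let Q := KRegLib.fibBase p q
  let F := Localization.AtPrime q
  have hunit : ∀ y : Q.primeCompl, IsUnit (KRegLib.toFib p q y.1) :=
    fun y => KRegLib.isUnit_toFib p q y.1 y.2
  let χ : T →+* F := IsLocalization.lift (M := Q.primeCompl) hunit
  have hχ : ∀ a, χ (algebraMap A T a) = KRegLib.toFib p q a := fun a => IsLocalization.lift_eq _ a
  have hO : ∀ r : O, KRegLib.toFib p q (algebraMap O A r) = algebraMap O F r := fun r => by
    show algebraMap (p.Fiber A) F (Algebra.TensorProduct.includeRight (algebraMap O A r)) = _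
    rw [AlgHom.commutes, ← IsScalarTower.algebraMap_apply O (p.Fiber A) F]
  have hOu : ∀ r : O, r ∉ p → IsUnit (algebraMap O F r) := fun r hr => by
    rw [IsScalarTower.algebraMap_apply O p.ResidueField F]
    exact (isUnit_iff_ne_zero.2 fun h0 => hr (Ideal.algebraMap_residueField_eq_zero.1 h0)).map _
  have hfr : ∀ y : p.Fiber A, ∃ r : O, r ∉ p ∧ ∃ a : A,
      KRegLib.toFib p q a = algebraMap O F r * algebraMap (p.Fiber A) F y := fun y => by
    obtain ⟨r, hr, a, ha⟩ := Ideal.Fiber.exists_smul_eq_one_tmul _ y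
    refine ⟨r, hr, a, ?_⟩
    show algebraMap (p.Fiber A) F ((1 : p.ResidueField) ⊗ₜ[O] a) = _
    rw [← ha, Algebra.smul_def, map_mul, ← IsScalarTower.algebraMap_apply O (p.Fiber A) F]
  refine ⟨χ, RingHom.ext hχ, fun z => ?_, le_antisymm (fun t ht => ?_) ?_⟩
  · obtain ⟨y, s, rfl⟩ := IsLocalization.exists_mk'_eq q.primeCompl z
    obtain ⟨r, hr, a, ha⟩ := hfr y
    obtain ⟨r', hr', b, hb⟩ := hfr s.1
    have hu : IsUnit (KRegLib.toFib p q (algebraMap O A r * b)) := by
      rw [map_mul, hO, hb]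
      exact (hOu r hr).mul ((hOu r' hr').mul (IsLocalization.map_units F s))
    have hmem : algebraMap O A r * b ∈ Q.primeCompl := fun h =>
      KRegLib.map_toFib_le_maximalIdeal p Q q le_rfl (Ideal.mem_map_of_mem _ h) hu
    refine ⟨IsLocalization.mk' T (algebraMap O A r' * a) ⟨_, hmem⟩, hu.mul_left_inj.1 ?_⟩
    rw [← hχ (algebraMap O A r * b), ← map_mul,
      IsLocalization.mk'_spec T (algebraMap O A r' * a) ⟨_, hmem⟩, hχ, hχ, map_mul, map_mul, hO, hO, ha,
      hb, ← IsLocalization.mk'_spec F y s]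
    ring
  · obtain ⟨a, s, rfl⟩ := IsLocalization.exists_mk'_eq Q.primeCompl t
    have h0 : KRegLib.toFib p q a = 0 := by
      rw [← hχ, ← IsLocalization.mk'_spec T a s, map_mul, RingHom.mem_ker.1 ht, zero_mul]
    obtain ⟨w, hw, hwa⟩ := KRegLib.mem_sat_of_toFib_mem p ⊥ q a (by rw [h0]; exact zero_mem _)
    rw [bot_sup_eq] at hwa
    have h1 := Ideal.mem_map_of_mem (algebraMap A T) hwa
    rw [map_mul, Ideal.unit_mul_mem_iff_mem _ (IsLocalization.map_units T (⟨w, hw⟩ : Q.primeCompl)),
      ← IsLocalization.mk'_spec T a s,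
      Ideal.mul_unit_mem_iff_mem _ (IsLocalization.map_units T s)] at h1
    exact h1
  · rw [RingHom.ker_eq_comap_bot, ← Ideal.map_le_iff_le_comap, Ideal.map_map,
      show χ.comp (algebraMap A T) = KRegLib.toFib p q from RingHom.ext hχ, KRegLib.map_toFib_eq_bot]

/-- A regular sequence in the local ring of the fibre, seen in a quotient of the local ring. -/
theorem fibKReg_of_projection {O A : Type u} [CommRing O] [CommRing A] [Algebra O A] (p : Ideal O)
    [p.IsPrime] (q : Ideal (p.Fiber A)) [q.IsPrime] (T : Type u) [CommRing T] [Algebra A T]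
    [IsLocalization.AtPrime T (KRegLib.fibBase p q)] (J : Ideal A) (R : Type u) [CommRing R]
    (σ : T →+* R) (hσ : Function.Surjective σ)
    (hker : RingHom.ker σ = (p.map (algebraMap O A)).map (algebraMap A T)) (rs : List R)
    (hrs : IsWeaklyRegular R rs) (hJ : (J.map (algebraMap A T)).map σ = Ideal.ofList rs) :
    KRegLib.FibKReg p J q := by
  obtain ⟨χ, hχc, hχs, hχk⟩ := exists_fibre_projection p q T
  let F := Localization.AtPrime q
  let e : F ≃+* R := (RingHom.quotientKerEquivOfSurjective hχs).symm.trans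
    ((Ideal.quotEquivOfEq (hχk.trans hker.symm)).trans (RingHom.quotientKerEquivOfSurjective hσ))
  have he : ∀ t, e (χ t) = σ t := fun t => by simp [e]
  have hσe : σ = e.toRingHom.comp χ := RingHom.ext fun t => (he t).symm
  refine ⟨rs.length, fun i => e.symm (rs.get i), KRegLib.isExact_of_isWeaklyRegular _ ?_, ?_⟩
  · rw [show (List.ofFn fun i => e.symm (rs.get i)) = rs.map e.symm by
      show List.ofFn (e.symm ∘ rs.get) = _
      rw [← List.map_ofFn, List.ofFn_get]]
    refine (AddEquiv.isWeaklyRegular_congr (e := e.symm.toAddEquiv) (as := rs) (bs := rs.map e.symm) ?_).1 hrs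
    exact List.forall₂_map_right_iff.2 (List.forall₂_same.2 fun x _ y => map_mul e.symm x y)
  · have h1 : (J.map (KRegLib.toFib p q)).map e.toRingHom = Ideal.ofList rs := by
      rw [← hJ, ← hχc, Ideal.map_map, Ideal.map_map, hσe, RingHom.comp_assoc]
    have h2 := congrArg (Ideal.map e.symm.toRingHom) h1
    rw [Ideal.map_map, show e.symm.toRingHom.comp e.toRingHom = RingHom.id _ from
      RingHom.ext fun x => e.symm_apply_apply x, Ideal.map_id, Ideal.ofList, Ideal.map_span] at h2
    rw [h2]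
    congr 1
    ext y
    simp only [Set.mem_image, Set.mem_setOf_eq, Set.mem_range, RingEquiv.toRingHom_eq_coe, RingHom.coe_coe]
    exact ⟨fun ⟨x, hx, hxy⟩ => (List.mem_iff_get.1 hx).elim fun i hi => ⟨i, hi ▸ hxy⟩,
      fun ⟨i, hi⟩ => ⟨_, rs.get_mem i, hi⟩⟩

variable {X S : Scheme.{u}}

/-- The kernel of the stalk map of a closed immersion is the stalk of its ideal sheaf. -/
theorem ker_stalkMap_eq_stI {Z : Scheme.{u}} (i : Z ⟶ X) [IsClosedImmersion i] (z : Z) :
    RingHom.ker (i.stalkMap z).hom = Div21Lib.stI i.ker (i z) := by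
  obtain ⟨V, hV, hzV, -⟩ := exists_isAffineOpen_mem_and_subset (U := ⊤) (x := i z) trivial
  rw [RegImmLib.ker_stalkMap_eq_map i hV z hzV, Div21Lib.stI_eq i.ker ⟨V, hV⟩ hzV, Scheme.Hom.ker_apply]

/-- The stalk of the ideal on the fibre is generated by a regular sequence. -/
theorem exists_fibre_seq (φ : X ⟶ S) [LocallyOfFinitePresentation φ] (I : X.IdealSheafData) (x : X)
    (hfib : RegImm.IsRegularImmersion RegImm.Kind.quasi (pullback.snd I.subschemeι (φ.fiberι (φ x))))
    (hx : x ∈ I.support) :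
    ∃ (w : ↥(φ.fiber (φ x))) (hw : φ.fiberι (φ x) w = x) (rs : List ↑((φ.fiber (φ x)).presheaf.stalk w)),
      IsRegular ↑((φ.fiber (φ x)).presheaf.stalk w) rs ∧
        (Div21Lib.stI I x).map (FibFlat.sm (φ.fiberι (φ x)) w x hw) = Ideal.ofList rs := by
  obtain ⟨z, hz⟩ : x ∈ Set.range I.subschemeι := by
    rw [I.range_subschemeι]; exact hx
  obtain ⟨w, hw⟩ : x ∈ Set.range (φ.fiberι (φ x)) := by rw [Scheme.Hom.range_fiberι]; rfl
  obtain ⟨z', -, hz2⟩ := Scheme.Pullback.exists_preimage_pullback (f := I.subschemeι)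
    (g := φ.fiberι (φ x)) z w (hz.trans hw.symm)
  subst hz2
  haveI : IsLocallyNoetherian (φ.fiber (φ x)) :=
    LocallyOfFiniteType.isLocallyNoetherian (φ.fiberToSpecResidueField (φ x))
  let i := pullback.snd I.subschemeι (φ.fiberι (φ x))
  obtain ⟨rs, hrs, hker⟩ := Groth.Agent.S18944.result i
    (KRegLib.regImm_of_regImm RegImm.Kind.quasi RegImm.Kind.regular i hfib) z'
  have hik : i.ker = I.comap (φ.fiberι (φ x)) := by
    show (pullback.snd I.subschemeι (φ.fiberι (φ x))).ker = _
    rw [← pullbackSymmetry_hom_comp_fst, Scheme.Hom.ker_comp_of_isIso,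
      Scheme.IdealSheafData.ker_fst_of_isClosedImmersion, Scheme.IdealSheafData.ker_subschemeι]
  refine ⟨i z', hw, rs, hrs, ?_⟩
  rw [← hker, ker_stalkMap_eq_stI i z', hik, Div21Lib.stI_comap]
  have key : ∀ (y : X) (hy : φ.fiberι (φ x) (i z') = y),
      (Div21Lib.stI I y).map (FibFlat.sm (φ.fiberι (φ x)) (i z') y hy) =
        (Div21Lib.stI I (φ.fiberι (φ x) (i z'))).map ((φ.fiberι (φ x)).stalkMap (i z')).hom := by
    rintro y rfl
    rw [FibFlat.sm_self]
  exact key x hw

/-- The criterion at a point, from the kernel in the local ring of the fibre. -/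
theorem regImmAt_of_fibre_seq (φ : X ⟶ S) [LocallyOfFinitePresentation φ] (I : X.IdealSheafData)
    [Flat (I.subschemeι ≫ φ)] [LocallyOfFinitePresentation (I.subschemeι ≫ φ)]
    (z : I.subscheme) (hfl : (φ.stalkMap (I.subschemeι z)).hom.Flat)
    (hseq : ∃ (w : ↥(φ.fiber (φ (I.subschemeι z)))) (hw : φ.fiberι _ w = I.subschemeι z)
      (rs : List ↑((φ.fiber (φ (I.subschemeι z))).presheaf.stalk w)),
      IsRegular ↑((φ.fiber (φ (I.subschemeι z))).presheaf.stalk w) rs ∧
        (Div21Lib.stI I (I.subschemeι z)).map (FibFlat.sm (φ.fiberι (φ (I.subschemeι z))) w (I.subschemeι z) hw) =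
          Ideal.ofList rs) :
    RegImm.IsRegularImmersionAt RegImm.Kind.quasi I.subschemeι z := by
  let x := I.subschemeι z
  obtain ⟨W, hxW⟩ := exists_chart φ x
  let F : X.Opens := ⟨{y | (φ.stalkMap y).hom.Flat}, FlatLocus.isOpen_flat_locus φ⟩
  obtain ⟨U₁, hU₁, hxr, hr'⟩ := exists_isAffineOpen_mem_and_subset (x := x) (U := φ ⁻¹ᵁ W.1 ⊓ F) ⟨hxW, hfl⟩
  have hr : U₁ ≤ φ ⁻¹ᵁ W.1 := fun y hy => (hr' hy).1
  let U : X.affineOpens := ⟨U₁, hU₁⟩
  let O := Γ(S, W.1)
  let A := Γ(X, U.1)
  letI : Algebra O A := (φ.appLE W.1 U.1 hr).hom.toAlgebra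
  let J : Ideal A := I.ideal U
  have hJ : J.FG := fg_ideal_chart φ I W U hr
  haveI : Module.Flat O (A ⧸ J) :=
    RingHom.flat_algebraMap_iff.1 (flat_quotApp φ I inferInstance W U hr)
  haveI : Module.Flat O A :=
    RingHom.flat_algebraMap_iff.1 (flat_appLE_of_flat_stalks φ W.2 U.2 hr fun y hy => (hr' hy).2)
  haveI : Algebra.FinitePresentation O A :=
    HasRingHomProperty.appLE @LocallyOfFinitePresentation φ inferInstance W U hr
  let Q := (U.2.primeIdealOf ⟨x, hxr⟩).asIdeal
  let p := (W.2.primeIdealOf ⟨φ x, hxW⟩).asIdeal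
  have hQp : Q.comap (algebraMap O A) = p := congrArg PrimeSpectrum.asIdeal
    (IsAffineOpen.comap_primeIdealOf_appLE (f := φ) W.1 W.2 U.1 U.2 hr hxr)
  obtain ⟨q, hq, hqQ⟩ := KRegLib.exists_fib_point p Q hQp
  letI := X.presheaf.algebra_section_stalk (⟨x, hxr⟩ : U.1)
  haveI hlQ : IsLocalization.AtPrime (X.presheaf.stalk x) Q := U.2.isLocalization_stalk ⟨x, hxr⟩
  haveI : IsLocalization.AtPrime (X.presheaf.stalk x) (KRegLib.fibBase p q) := by
    show IsLocalization (KRegLib.fibBase p q).primeCompl (X.presheaf.stalk x)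
    rw [show (KRegLib.fibBase p q).primeCompl = Q.primeCompl from SetLike.ext fun a => by
      show a ∉ KRegLib.fibBase p q ↔ a ∉ Q
      rw [hqQ]]
    exact hlQ
  have hm : (maximalIdeal _).map (φ.stalkMap x).hom =
      (p.map (algebraMap O A)).map (algebraMap A (X.presheaf.stalk x)) := by
    letI := S.presheaf.algebra_section_stalk (⟨φ x, hxW⟩ : W.1)
    haveI : IsLocalization.AtPrime (S.presheaf.stalk (φ x)) p := W.2.isLocalization_stalk ⟨φ x, hxW⟩
    rw [← IsLocalization.AtPrime.map_eq_maximalIdeal p (S.presheaf.stalk (φ x)), Ideal.map_map, Ideal.map_map]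
    congr 1
    ext w
    show φ.stalkMap x (S.presheaf.germ W.1 (φ x) hxW w) = X.presheaf.germ U.1 x hxr (φ.appLE W.1 U.1 hr w)
    rw [Scheme.Hom.germ_stalkMap_apply, Scheme.Hom.appLE, CommRingCat.comp_apply,
      TopCat.Presheaf.germ_res_apply]
  obtain ⟨w, hw, rs, hrs, hgen⟩ := hseq
  have hker : RingHom.ker (FibFlat.sm (φ.fiberι (φ x)) w x hw) =
      (p.map (algebraMap O A)).map (algebraMap A (X.presheaf.stalk x)) := by
    rw [FibFlat.ker_sm_fiberι φ (φ x) w x hw, FibFlat.sm_self, hm]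
  rw [Div21Lib.stI_eq I U hxr] at hgen
  have hfk : KRegLib.FibKReg p J q := fibKReg_of_projection p q (X.presheaf.stalk x) J _
    (FibFlat.sm (φ.fiberι (φ x)) w x hw) (FibFlat.surjective_sm w x hw) hker rs hrs.toIsWeaklyRegular hgen
  have hJQ : J ≤ KRegLib.fibBase p q := by
    rw [hqQ]
    exact (I.ker_subschemeι_app U).symm.trans_le
      (KRegLib.ker_app_le_primeIdealOf I.subschemeι U.2 (U.2.preimage I.subschemeι) z hxr)
  obtain ⟨g, hg, hon⟩ := (KRegLib.kReg_of_fibKReg p J hJ q hJQ hfk).exists_on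
  rw [hqQ] at hg
  letI : Algebra A Γ(X, X.basicOpen g) := (X.presheaf.map (homOfLE (X.basicOpen_le g)).op).hom.toAlgebra
  haveI : IsLocalization.Away g Γ(X, X.basicOpen g) := U.2.isLocalization_basicOpen g
  haveI : Module.Flat A Γ(X, X.basicOpen g) := IsLocalization.flat _ (Submonoid.powers g)
  obtain ⟨l, hl, hIl⟩ := (KRegLib.kRegOn_iff_exists_list J Γ(X, X.basicOpen g)).1
    (hon _ (IsLocalization.Away.algebraMap_isUnit g))
  have hzg : x ∈ X.basicOpen g :=
    (Scheme.mem_basicOpen _ _ _ hxr).mpr (IsLocalization.map_units (X.presheaf.stalk x) (⟨g, hg⟩ : Q.primeCompl))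
  refine ⟨X.affineBasicOpen g, hzg, inferInstance, l, KRegLib.quasi_of_seq RegImm.Kind.koszul l hl, ?_⟩
  refine (I.ker_subschemeι_app (X.affineBasicOpen g)).trans ?_
  refine (I.map_ideal_basicOpen U g).symm.trans ?_
  exact hIl

/-- The fibrewise criterion at a point. -/
theorem regImmAt_of_fibre' (φ : X ⟶ S) [LocallyOfFinitePresentation φ] (I : X.IdealSheafData)
    [Flat (I.subschemeι ≫ φ)] [LocallyOfFinitePresentation (I.subschemeι ≫ φ)]
    (hfib : ∀ s : ↥S, RegImm.IsRegularImmersion RegImm.Kind.quasi (pullback.snd I.subschemeι (φ.fiberι s)))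
    (z : I.subscheme) (hfl : (φ.stalkMap (I.subschemeι z)).hom.Flat) :
    RegImm.IsRegularImmersionAt RegImm.Kind.quasi I.subschemeι z := by
  refine regImmAt_of_fibre_seq φ I z hfl (exists_fibre_seq φ I _ (hfib _) ?_)
  rw [← SetLike.mem_coe, ← I.range_subschemeι]
  exact ⟨z, rfl⟩

/-- The fibrewise criterion for a flat morphism. -/
theorem regImmAt_of_fibre (φ : X ⟶ S) [Flat φ] [LocallyOfFinitePresentation φ] (I : X.IdealSheafData)
    [Flat (I.subschemeι ≫ φ)] [LocallyOfFinitePresentation (I.subschemeι ≫ φ)]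
    (hfib : ∀ s : ↥S, RegImm.IsRegularImmersion RegImm.Kind.quasi (pullback.snd I.subschemeι (φ.fiberι s)))
    (z : I.subscheme) : RegImm.IsRegularImmersionAt RegImm.Kind.quasi I.subschemeι z :=
  regImmAt_of_fibre' φ I hfib z (Flat.stalkMap φ _)

end Groth.Agent.FlatX
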