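import Mathlib
import Groth.Agent.FlatX.RelCartier
import Groth.Agent.FibFlat.Core
import Groth.Agent.FibFlat.Descent

/-!
A finitely presented algebra with a nonzerodivisor whose quotient is flat is flat along the zero
locus of that element, over an arbitrary base ring.
-/

set_option autoImplicit false
set_option linter.style.haveILetI false
set_option backward.isDefEq.respectTransparency false
set_option backward.isDefEq.respectTransparency.types false

universe u

open CategoryTheory AlgebraicGeometry TensorProduct MvPolynomial Groth.Agent.MeroX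

namespace Groth.Agent.FlatX

/-- A nonzerodivisor with flat quotient stays one after a base change killing nothing new. -/
theorem nzd_baseChange {R T S : Type u} [CommRing R] [CommRing T] [CommRing S] [Algebra R T] [Algebra R S]
    (a : S) (hflat : Module.Flat R (S ⧸ Ideal.span {a}))
    (hK : ∀ k, a * k = 0 → (1 : T) ⊗ₜ[R] k = 0) :
    ((1 : T) ⊗ₜ[R] a) ∈ nonZeroDivisors (T ⊗[R] S) := by
  let μ : S →ₗ[R] S := LinearMap.mulLeft R a
  let μ' : S →ₗ[R] LinearMap.range μ := μ.rangeRestrict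
  let q : S →ₗ[R] S ⧸ Ideal.span {a} := (Ideal.Quotient.mkₐ R (Ideal.span {a})).toLinearMap
  have hex : Function.Exact (LinearMap.range μ).subtype q := by
    intro y
    show Ideal.Quotient.mk (Ideal.span {a}) y = 0 ↔ _
    rw [Ideal.Quotient.eq_zero_iff_mem, Ideal.mem_span_singleton']
    constructor
    · rintro ⟨c, rfl⟩
      exact ⟨⟨_, c, show a * c = c * a from mul_comm _ _⟩, rfl⟩
    · rintro ⟨⟨_, c, rfl⟩, rfl⟩
      exact ⟨c, mul_comm _ _⟩
  haveI := hflat
  have hinj := LinearMap.lTensor_injective_of_exact_of_flat q Ideal.Quotient.mk_surjective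
    (LinearMap.range μ).subtype (LinearMap.range μ).subtype_injective hex T
  have hμ : ∀ z : T ⊗[R] S, ((1 : T) ⊗ₜ[R] a) * z = μ.lTensor T z := fun z => by
    induction z using TensorProduct.induction_on with
    | zero => rw [mul_zero, map_zero]
    | tmul t s => rw [Algebra.TensorProduct.tmul_mul_tmul, one_mul]; rfl
    | add x y hx hy => rw [mul_add, map_add, hx, hy]
  rw [mem_nonZeroDivisors_iff_right]
  intro z hz
  rw [mul_comm, hμ, show μ = (LinearMap.range μ).subtype ∘ₗ μ' from rfl, LinearMap.lTensor_comp,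
    LinearMap.comp_apply] at hz
  have hz' : μ'.lTensor T z = 0 := hinj (by rw [hz, map_zero])
  obtain ⟨w, rfl⟩ := (lTensor_exact T (LinearMap.exact_subtype_ker_map μ') μ.surjective_rangeRestrict z).1 hz'
  clear hz hz'
  induction w using TensorProduct.induction_on with
  | zero => rw [map_zero]
  | tmul t k =>
    have hk : a * (k : S) = 0 := congrArg Subtype.val k.2
    rw [LinearMap.lTensor_tmul]
    show t ⊗ₜ[R] (k : S) = 0
    rw [show t ⊗ₜ[R] (k : S) = (t ⊗ₜ[R] (1 : S)) * ((1 : T) ⊗ₜ[R] (k : S)) by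
      rw [Algebra.TensorProduct.tmul_mul_tmul, mul_one, one_mul], hK k hk, mul_zero]
  | add x y hx hy => rw [map_add, hx, hy, add_zero]

/-- A finitely generated ideal killed in a tensor product is killed over a finitely generated
subalgebra. -/
theorem exists_fg_kills {R O S : Type u} [CommRing R] [CommRing O] [CommRing S] [Algebra R O] [Algebra R S]
    (K : Ideal S) (hK : K.FG) (h : ∀ k ∈ K, (1 : O) ⊗ₜ[R] k = 0) :
    ∃ B : Subalgebra R O, B.FG ∧ ∀ k ∈ K, (1 : B) ⊗ₜ[R] k = 0 := by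
  classical
  obtain ⟨G, rfl⟩ := hK
  have key : ∀ s : Finset S, s ⊆ G → ∃ B : Subalgebra R O, B.FG ∧ ∀ k ∈ s, (1 : B) ⊗ₜ[R] k = 0 := by
    intro s
    induction s using Finset.induction_on with
    | empty => exact fun _ => ⟨⊥, Subalgebra.fg_bot, fun k hk => absurd hk (Finset.notMem_empty k)⟩
    | insert k s _ ih =>
      intro hs
      obtain ⟨B, hB, hBk⟩ := ih ((Finset.subset_insert k s).trans hs)
      obtain ⟨B', hle, hB', he⟩ := TensorProduct.Algebra.eq_of_fg_of_subtype_eq hB
        (t := (1 : B) ⊗ₜ[R] k) (t' := 0)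
        (by rw [map_zero, LinearMap.rTensor_tmul]
            exact h k (Ideal.subset_span (hs (Finset.mem_insert_self k s))))
      refine ⟨B', hB', fun j hj => ?_⟩
      rcases Finset.mem_insert.1 hj with rfl | hj
      · rw [map_zero, LinearMap.rTensor_tmul] at he
        exact he
      · have h2 := congrArg (LinearMap.rTensor S (Subalgebra.inclusion hle).toLinearMap) (hBk j hj)
        rw [map_zero, LinearMap.rTensor_tmul] at h2
        exact h2
  obtain ⟨B, hB, hBG⟩ := key G subset_rfl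
  refine ⟨B, hB, fun k hk => ?_⟩
  induction hk using Submodule.span_induction with
  | mem x hx => exact hBG x hx
  | zero => exact TensorProduct.tmul_zero _ _
  | add x y _ _ hx hy => rw [TensorProduct.tmul_add, hx, hy, add_zero]
  | smul c x _ hx =>
    rw [show (1 : B) ⊗ₜ[R] (c • x) = ((1 : B) ⊗ₜ[R] c) * ((1 : B) ⊗ₜ[R] x) by
      rw [Algebra.TensorProduct.tmul_mul_tmul, one_mul, smul_eq_mul], hx, mul_zero]

/-- The quotient of a base change. -/
theorem flat_quot_baseChange {R T S : Type u} [CommRing R] [CommRing T] [CommRing S] [Algebra R T] [Algebra R S]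
    (a : S) (h : Module.Flat R (S ⧸ Ideal.span {a})) :
    Module.Flat T ((T ⊗[R] S) ⧸ Ideal.span {(1 : T) ⊗ₜ[R] a}) := by
  haveI := h
  have heq : (Ideal.span {a}).map (Algebra.TensorProduct.includeRight (A := T) (R := R)) =
      Ideal.span {(1 : T) ⊗ₜ[R] a} := by
    rw [Ideal.map_span, Set.image_singleton]
    rfl
  exact Module.Flat.of_linearEquiv ((Algebra.TensorProduct.tensorQuotientEquiv (R := R) T S T
    (Ideal.span {a})).trans (Ideal.quotientEquivAlgOfEq T heq)).symm.toLinearEquiv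

/-- The Noetherian case, on a spectrum. -/
theorem flat_stalk_noeth {R S : Type u} [CommRing R] [CommRing S] [Algebra R S] [IsNoetherianRing S]
    (a : S) (ha : a ∈ nonZeroDivisors S) (h : Module.Flat R (S ⧸ Ideal.span {a}))
    (q : Spec (CommRingCat.of S)) (hq : a ∈ (q : PrimeSpectrum S).asIdeal) :
    ((Spec.map (CommRingCat.ofHom (algebraMap R S))).stalkMap q).hom.Flat := by
  let Q : Ideal S := (q : PrimeSpectrum S).asIdeal
  let B := Localization.AtPrime Q
  have hq' := flat_quot_atPrime (Ideal.span {a}) Q B h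
  rw [Ideal.map_span, Set.image_singleton] at hq'
  haveI : Module.Flat R B := by
    refine flat_of_quot_flat_noetherian (nonZeroDivisors_map Q.primeCompl ha) ?_ hq'
    rw [IsLocalRing.jacobson_eq_maximalIdeal ⊥ bot_ne_top]
    exact (IsLocalization.AtPrime.to_map_mem_maximal_iff B Q a).2 hq
  refine (FlatLocus.stalkMap_flat_SpecMap (CommRingCat.ofHom (algebraMap R S)) q).2 ?_
  have he : (CommRingCat.ofHom (algebraMap R S)).hom.toAlgebra = (inferInstance : Algebra R S) :=
    Algebra.algebra_ext _ _ fun _ => rfl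
  rw [he]
  exact Module.Flat.of_linearEquiv
    ((IsLocalizedModule.iso Q.primeCompl (Algebra.linearMap S B)).restrictScalars R)

/-- Flatness along the zero locus, given a Noetherian model with flat quotient. -/
theorem flat_stalk_of_model {R₁ O S₁ A : Type u} [CommRing R₁] [CommRing O] [CommRing S₁] [CommRing A]
    [Algebra R₁ O] [Algebra R₁ S₁] [Algebra R₁ A] [Algebra O A] [Algebra S₁ A]
    [IsScalarTower R₁ O A] [IsScalarTower R₁ S₁ A]
    [IsNoetherianRing R₁] [Algebra.FiniteType R₁ S₁]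
    (hsq : IsPushout (CommRingCat.ofHom (algebraMap R₁ O)) (CommRingCat.ofHom (algebraMap R₁ S₁))
      (CommRingCat.ofHom (algebraMap O A)) (CommRingCat.ofHom (algebraMap S₁ A)))
    (f₁ : S₁) (hflat : Module.Flat R₁ (S₁ ⧸ Ideal.span {f₁}))
    (hf : algebraMap S₁ A f₁ ∈ nonZeroDivisors A) (q : Spec (CommRingCat.of A))
    (hq : algebraMap S₁ A f₁ ∈ (q : PrimeSpectrum A).asIdeal) :
    ((Spec.map (CommRingCat.ofHom (algebraMap O A))).stalkMap q).hom.Flat := by
  haveI : Algebra.IsPushout R₁ O S₁ A := CommRingCat.isPushout_iff_isPushout.1 hsq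
  haveI : IsNoetherianRing S₁ := Algebra.FiniteType.isNoetherianRing R₁ S₁
  let e := Algebra.IsPushout.equiv R₁ O S₁ A
  let K : Ideal S₁ := LinearMap.ker (LinearMap.toSpanSingleton S₁ S₁ f₁)
  have hKmem : ∀ k, k ∈ K ↔ k * f₁ = 0 := fun k => LinearMap.mem_ker
  obtain ⟨R₂, hR₂, hkill⟩ := exists_fg_kills (O := O) K (IsNoetherian.noetherian K) fun k hk => by
    apply e.injective
    rw [map_zero, Algebra.IsPushout.equiv_tmul, map_one, one_mul]
    refine mem_nonZeroDivisors_iff_right.1 hf _ ?_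
    rw [← map_mul, (hKmem k).1 hk, map_zero]
  haveI : Algebra.FiniteType R₁ R₂ := (Subalgebra.fg_iff_finiteType R₂).1 hR₂
  haveI : IsNoetherianRing R₂ := Algebra.FiniteType.isNoetherianRing R₁ R₂
  let S₂ := R₂ ⊗[R₁] S₁
  haveI : IsNoetherianRing S₂ := Algebra.FiniteType.isNoetherianRing R₂ S₂
  let f₂ : S₂ := (1 : R₂) ⊗ₜ[R₁] f₁
  have hnzd : f₂ ∈ nonZeroDivisors S₂ :=
    nzd_baseChange f₁ hflat fun k hk => hkill k ((hKmem k).2 (by rw [mul_comm]; exact hk))
  have hflat₂ : Module.Flat R₂ (S₂ ⧸ Ideal.span {f₂}) := flat_quot_baseChange f₁ hflat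
  let ψₐ : S₂ →ₐ[R₁] A :=
    Algebra.TensorProduct.lift ((IsScalarTower.toAlgHom R₁ O A).comp R₂.val)
      (IsScalarTower.toAlgHom R₁ S₁ A) fun _ _ => mul_comm _ _
  let ψ : S₂ →+* A := ψₐ.toRingHom
  have hψf : ψ f₂ = algebraMap S₁ A f₁ := by
    show ψₐ ((1 : R₂) ⊗ₜ[R₁] f₁) = _
    exact (Algebra.TensorProduct.lift_tmul _ _ _ _ _).trans (by rw [map_one, one_mul]; rfl)
  have sqL := CommRingCat.isPushout_tensorProduct R₁ R₂ S₁
  have sq₂ : IsPushout (CommRingCat.ofHom R₂.val.toRingHom) (CommRingCat.ofHom (algebraMap R₂ S₂))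
      (CommRingCat.ofHom (algebraMap O A)) (CommRingCat.ofHom ψ) := by
    refine IsPushout.of_left ?_ ?_ sqL
    · have e1 : CommRingCat.ofHom (algebraMap R₁ R₂) ≫ CommRingCat.ofHom R₂.val.toRingHom =
          CommRingCat.ofHom (algebraMap R₁ O) := CommRingCat.hom_ext R₂.val.comp_algebraMap
      have e2 : CommRingCat.ofHom (Algebra.TensorProduct.includeRight (R := R₁) (A := R₂) (B := S₁)).toRingHom ≫
          CommRingCat.ofHom ψ = CommRingCat.ofHom (algebraMap S₁ A) := by
        refine CommRingCat.hom_ext (RingHom.ext fun s => ?_)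
        show ψₐ ((1 : R₂) ⊗ₜ[R₁] s) = _
        exact (Algebra.TensorProduct.lift_tmul _ _ _ _ _).trans (by rw [map_one, one_mul]; rfl)
      rw [e1, e2]
      exact hsq
    · refine CommRingCat.hom_ext (RingHom.ext fun r => ?_)
      show algebraMap O A (R₂.val r) = ψ (r ⊗ₜ[R₁] (1 : S₁))
      show _ = ψₐ (r ⊗ₜ[R₁] (1 : S₁))
      exact ((Algebra.TensorProduct.lift_tmul _ _ _ _ _).trans (by rw [map_one, mul_one]; rfl)).symm
  have sqS := (isPullback_SpecMap_of_isPushout _ _ _ _ sq₂).flip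
  haveI : LocallyOfFinitePresentation (Spec.map (CommRingCat.ofHom (algebraMap R₂ S₂))) :=
    HasRingHomProperty.Spec_iff.2 (RingHom.FinitePresentation.of_finiteType.1
      (RingHom.finiteType_algebraMap.2 inferInstance))
  refine FibFlat.flat_stalk_of_isPullback sqS q ?_
  refine flat_stalk_noeth f₂ hnzd hflat₂ _ ?_
  show ψ f₂ ∈ (q : PrimeSpectrum A).asIdeal
  rw [hψf]
  exact hq

/-- Flatness along the zero locus from a presentation defined over a Noetherian ring. -/
theorem flat_stalk_of_presentation {O A R₀ R₁ : Type u} [CommRing O] [CommRing A] [Algebra O A]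
    [CommRing R₀] [CommRing R₁] [IsNoetherianRing R₁] [Algebra R₀ R₁] [Algebra R₁ O] [Algebra R₀ O]
    [IsScalarTower R₀ R₁ O] {n : ℕ} (π : MvPolynomial (Fin n) O →ₐ[O] A) (hπ : Function.Surjective π)
    (I₀ : Ideal (MvPolynomial (Fin n) R₀)) (F₀ : MvPolynomial (Fin n) R₀)
    (hI : RingHom.ker π.toRingHom = I₀.map (MvPolynomial.map (algebraMap R₀ O))) {f : A}
    (hF : π (MvPolynomial.map (algebraMap R₀ O) F₀) = f)
    (hflat₁ : Module.Flat R₁ (MvPolynomial (Fin n) R₁ ⧸
      (I₀ ⊔ Ideal.span {F₀}).map (MvPolynomial.map (algebraMap R₀ R₁))))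
    (hf : f ∈ nonZeroDivisors A) (q : Spec (CommRingCat.of A)) (hq : f ∈ (q : PrimeSpectrum A).asIdeal) :
    ((Spec.map (CommRingCat.ofHom (algebraMap O A))).stalkMap q).hom.Flat := by
  letI : Algebra R₁ A := ((algebraMap O A).comp (algebraMap R₁ O)).toAlgebra
  haveI : IsScalarTower R₁ O A := IsScalarTower.of_algebraMap_eq fun _ => rfl
  let m₁ := MvPolynomial.map (σ := Fin n) (algebraMap R₀ R₁)
  let I₁ : Ideal (MvPolynomial (Fin n) R₁) := I₀.map m₁
  let S₁ := MvPolynomial (Fin n) R₁ ⧸ I₁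
  let f₁ : S₁ := Ideal.Quotient.mk I₁ (m₁ F₀)
  have hflatS : Module.Flat R₁ (S₁ ⧸ Ideal.span {f₁}) := by
    have he : (I₀ ⊔ Ideal.span {F₀}).map m₁ = I₁ ⊔ Ideal.span {m₁ F₀} := by
      rw [Ideal.map_sup, Ideal.map_span, Set.image_singleton]
    have he2 : (Ideal.span {m₁ F₀}).map (Ideal.Quotient.mkₐ R₁ I₁) = Ideal.span {f₁} := by
      rw [Ideal.map_span, Set.image_singleton]
      rfl
    haveI := hflat₁
    exact Module.Flat.of_linearEquiv (((Ideal.quotientEquivAlgOfEq R₁ he2.symm).trans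
      (DoubleQuot.quotQuotEquivQuotSupₐ R₁ I₁ (Ideal.span {m₁ F₀}))).trans
        (Ideal.quotientEquivAlgOfEq R₁ he.symm)).toLinearEquiv
  have hmm : (MvPolynomial.map (σ := Fin n) (algebraMap R₁ O)).comp m₁ = MvPolynomial.map (algebraMap R₀ O) :=
    RingHom.ext fun x => by
      rw [RingHom.comp_apply, MvPolynomial.map_map, ← IsScalarTower.algebraMap_eq]
  obtain ⟨j, hj, hsq⟩ := FibFlat.exists_isPushout_presentation (algebraMap R₁ O) π.toRingHom hπ I₁
    (by rw [hI, Ideal.map_map, hmm])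
  have hπC : π.toRingHom.comp MvPolynomial.C = algebraMap O A := RingHom.ext fun x => π.commutes x
  rw [hπC] at hsq
  letI : Algebra S₁ A := j.toAlgebra
  haveI : IsScalarTower R₁ S₁ A := IsScalarTower.of_algebraMap_eq (R := R₁) (S := S₁) (A := A) fun r => by
    show algebraMap O A (algebraMap R₁ O r) = j ((Ideal.Quotient.mk I₁) (MvPolynomial.C r))
    exact RingHom.congr_fun (congrArg CommRingCat.Hom.hom hsq.w) r
  have hf₁ : algebraMap S₁ A f₁ = f := by
    show j (Ideal.Quotient.mk I₁ (m₁ F₀)) = f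
    rw [hj]
    show π (((MvPolynomial.map (algebraMap R₁ O)).comp m₁) F₀) = f
    rw [hmm, hF]
  exact flat_stalk_of_model (R₁ := R₁) hsq f₁ hflatS (hf₁.symm ▸ hf) q (hf₁.symm ▸ hq)

/-- A finitely presented algebra is flat along the zero locus of a nonzerodivisor with flat quotient. -/
theorem flat_stalk_of_quot_flat {O A : Type u} [CommRing O] [CommRing A] [Algebra O A]
    [Algebra.FinitePresentation O A] (f : A) (hf : f ∈ nonZeroDivisors A)
    (hflat : Module.Flat O (A ⧸ Ideal.span {f})) (q : Spec (CommRingCat.of A))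
    (hq : f ∈ (q : PrimeSpectrum A).asIdeal) :
    ((Spec.map (CommRingCat.ofHom (algebraMap O A))).stalkMap q).hom.Flat := by
  classical
  obtain ⟨n, π, hπ, sf, hsf⟩ := Algebra.FinitePresentation.out (R := O) (A := A)
  obtain ⟨F, hF⟩ := hπ f
  let c : Finset O := (sf.biUnion fun g => g.coeffs) ∪ F.coeffs
  let R₀ : Subalgebra ℤ O := Algebra.adjoin ℤ (c : Set O)
  have : Algebra.FiniteType ℤ R₀ := (Subalgebra.fg_iff_finiteType R₀).1 (Subalgebra.fg_adjoin_finset c)
  have : IsNoetherianRing R₀ := Algebra.FiniteType.isNoetherianRing ℤ R₀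
  have hdesc : ∀ g : MvPolynomial (Fin n) O, (g.coeffs : Set O) ⊆ c →
      ∃ g₀ : MvPolynomial (Fin n) R₀, MvPolynomial.map (algebraMap R₀ O) g₀ = g := fun g hg =>
    MvPolynomial.mem_range_map_iff_coeffs_subset.2 fun x hx => ⟨⟨x, Algebra.subset_adjoin (hg hx)⟩, rfl⟩
  obtain ⟨F₀, hF₀⟩ := hdesc F fun x hx => Finset.mem_union_right _ hx
  let I₀ : Ideal (MvPolynomial (Fin n) R₀) := Ideal.span {g | MvPolynomial.map (algebraMap R₀ O) g ∈ sf}
  let J₀ : Ideal (MvPolynomial (Fin n) R₀) := I₀ ⊔ Ideal.span {F₀}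
  have hI : RingHom.ker π.toRingHom = I₀.map (MvPolynomial.map (algebraMap R₀ O)) := by
    refine le_antisymm ?_ (Ideal.map_le_iff_le_comap.2 (Ideal.span_le.2 fun g hg => hsf.le (Submodule.subset_span hg)))
    refine hsf.ge.trans (Submodule.span_le.2 fun g hg => ?_)
    obtain ⟨g₀, rfl⟩ := hdesc g fun x hx => Finset.mem_union_left _ (Finset.mem_biUnion.2 ⟨g, hg, hx⟩)
    exact Ideal.mem_map_of_mem _ (Ideal.subset_span hg)
  let π' : MvPolynomial (Fin n) O →ₐ[O] A ⧸ Ideal.span {f} := (Ideal.Quotient.mkₐ O _).comp π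
  have hπ' : Function.Surjective π' := Ideal.Quotient.mk_surjective.comp hπ
  have hJ : RingHom.ker π'.toRingHom = J₀.map (MvPolynomial.map (algebraMap R₀ O)) := by
    rw [Ideal.map_sup, ← hI, Ideal.map_span, Set.image_singleton, hF₀]
    show RingHom.ker ((Ideal.Quotient.mk (Ideal.span {f})).comp π.toRingHom) = _
    rw [← RingHom.comap_ker, Ideal.mk_ker, show Ideal.span {f} = (Ideal.span {F}).map π.toRingHom by
      rw [Ideal.map_span, Set.image_singleton]; exact congrArg (fun t => Ideal.span {t}) hF.symm,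
      Ideal.comap_map_of_surjective π.toRingHom hπ, sup_comm]
    rfl
  have hflatC : FlatModel.FlatC (FibFlat.relMod J₀) O := by
    rw [FibFlat.flatC_relMod_iff, ← hJ]
    haveI := hflat
    exact Module.Flat.of_linearEquiv (Ideal.quotientKerAlgEquivOfSurjective hπ').toLinearEquiv
  obtain ⟨R₁, hR₁, hflat₁⟩ := FlatModel.exists_fg_flatC (FibFlat.relMod J₀) hflatC
  rw [FibFlat.flatC_relMod_iff] at hflat₁
  have : Algebra.FiniteType R₀ R₁ := (Subalgebra.fg_iff_finiteType R₁).1 hR₁
  have : IsNoetherianRing R₁ := Algebra.FiniteType.isNoetherianRing R₀ R₁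
  exact flat_stalk_of_presentation (R₀ := R₀) (R₁ := R₁) π hπ I₀ F₀ hI (hF₀.symm ▸ hF) hflat₁ hf q hq

variable {X S : Scheme.{u}}

/-- A relative effective Cartier divisor lies in the flat locus. -/
theorem flat_stalkMap_of_lfp (f : X ⟶ S) [LocallyOfFinitePresentation f] {I : X.IdealSheafData}
    (hI : BlowUp.IsEffCartierIdeal I) (fI : Flat (I.subschemeι ≫ f)) {x : X} (hx : x ∈ I.support) :
    (f.stalkMap x).hom.Flat := by
  obtain ⟨W, hxW⟩ := exists_chart f x
  obtain ⟨U, hxU, e, a, ha, hIa⟩ := exists_locGen hI hxW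
  have h1 := flat_congr _ hIa (flat_quotApp f I fI W U e)
  let φ := f.appLE W.1 U.1 e
  letI : Algebra Γ(S, W.1) Γ(X, U.1) := φ.hom.toAlgebra
  haveI : Algebra.FinitePresentation Γ(S, W.1) Γ(X, U.1) :=
    HasRingHomProperty.appLE @LocallyOfFinitePresentation f inferInstance W U e
  obtain ⟨q, rfl⟩ : x ∈ Set.range U.2.fromSpec := by rw [U.2.range_fromSpec]; exact hxU
  have haq : a ∈ (q : PrimeSpectrum Γ(X, U.1)).asIdeal := by
    by_contra h
    rw [Scheme.IdealSheafData.mem_support_iff_of_mem (U := U) hxU, hIa, Scheme.zeroLocus_span,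
      Scheme.mem_zeroLocus_iff] at hx
    refine hx a rfl ?_
    rw [← Scheme.Hom.mem_preimage, U.2.fromSpec_preimage_basicOpen]
    exact h
  have hflat : ((Spec.map φ).stalkMap q).hom.Flat :=
    flat_stalk_of_quot_flat a ha (RingHom.flat_algebraMap_iff.mp h1) q haq
  have hsq : U.2.fromSpec ≫ f = Spec.map φ ≫ W.2.fromSpec := (W.2.SpecMap_appLE_fromSpec f U.2 e).symm
  have h2 : ((Spec.map φ ≫ W.2.fromSpec).stalkMap q).hom.Flat := by
    rw [Scheme.Hom.stalkMap_comp]
    have hiso : ∀ z : Spec Γ(S, W.1), IsIso (W.2.fromSpec.stalkMap z) := fun z => inferInstance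
    exact (@FlatLocus.flat_isIso_comp _ _ _ _ (hiso _) _).2 hflat
  rw [← hsq, Scheme.Hom.stalkMap_comp] at h2
  exact (FlatLocus.flat_comp_isIso _ _).1 h2

end Groth.Agent.FlatX
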