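import Mathlib
import Groth.Agent.FlatX.CartierFlatFP
import Groth.Agent.RegKinds.H1Descent
import Groth.Agent.QRegBC.Lift
import Groth.Agent.S2103

/-!
A finitely presented algebra is flat along the zero locus of an H1-regular sequence with flat quotient.
-/

set_option autoImplicit false
set_option linter.style.haveILetI false
set_option backward.isDefEq.respectTransparency false
set_option backward.isDefEq.respectTransparency.types false

universe u

open CategoryTheory AlgebraicGeometry TensorProduct MvPolynomial Groth.Agent.MeroX Groth.Agent.RegKinds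

namespace Groth.Agent.FlatX

/-- Flatness from flat quotients by the powers of an ideal in the radical, over any base. -/
theorem flat_of_quot_pow_flat {B C : Type u} [CommRing B] [CommRing C] [IsNoetherianRing C]
    [Algebra B C] (I : Ideal C) (hI : I ≤ Ideal.jacobson ⊥) (h : ∀ n, Module.Flat B (C ⧸ I ^ n)) :
    Module.Flat B C := by
  rw [Module.Flat.iff_lTensor_injective]
  intro N hN
  haveI : Module.Finite B N := Module.Finite.iff_fg.2 hN
  rw [injective_iff_map_eq_zero]
  intro z hz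
  have hmem : ∀ n, z ∈ (I ^ n • ⊤ : Submodule C (C ⊗[B] N)) := by
    intro n
    let π : C →ₗ[B] C ⧸ I ^ n := (Ideal.Quotient.mkₐ B (I ^ n)).toLinearMap
    have hπ : Function.Surjective π := Ideal.Quotient.mk_surjective
    haveI := h n
    have h1 : π.rTensor N z = 0 := by
      refine (injective_iff_map_eq_zero _).1
        (Module.Flat.lTensor_preserves_injective_linearMap N.subtype N.injective_subtype) _ ?_
      rw [← LinearMap.comp_apply, LinearMap.lTensor_comp_rTensor, ← LinearMap.rTensor_comp_lTensor,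
        LinearMap.comp_apply, hz, map_zero]
    obtain ⟨w, rfl⟩ := (rTensor_exact N (LinearMap.exact_subtype_ker_map π) hπ z).1 h1
    clear h1 hz
    induction w using TensorProduct.induction_on with
    | zero => simp
    | tmul i x =>
      have hi : (i : C) ∈ I ^ n := Ideal.Quotient.eq_zero_iff_mem.1 i.2
      rw [LinearMap.rTensor_tmul, Submodule.subtype_apply,
        show (i : C) ⊗ₜ[B] x = (i : C) • ((1 : C) ⊗ₜ[B] x) by rw [TensorProduct.smul_tmul', smul_eq_mul, mul_one]]
      exact Submodule.smul_mem_smul hi Submodule.mem_top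
    | add p q hp hq => rw [map_add]; exact add_mem hp hq
  exact (Ideal.iInf_pow_smul_eq_bot_of_le_jacobson (M := C ⊗[B] N) I hI).le (Submodule.mem_iInf _ |>.2 hmem)

/-- The Noetherian case: a quasi-regular sequence with flat quotient forces flatness of the local ring. -/
theorem flat_atPrime_of_quasi {R S : Type u} [CommRing R] [CommRing S] [Algebra R S] {c : ℕ}
    (f : Fin c → S) (hf : CAlgX.IsQuasiRegular f) (h : Module.Flat R (S ⧸ Ideal.span (Set.range f)))
    (Q : Ideal S) [Q.IsPrime] (hQ : ∀ i, f i ∈ Q) (B : Type u) [CommRing B] [Algebra R B] [Algebra S B]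
    [IsScalarTower R S B] [IsLocalization.AtPrime B Q] [IsNoetherianRing B] : Module.Flat R B := by
  haveI : IsLocalRing B := IsLocalization.AtPrime.isLocalRing B Q
  refine flat_of_quot_pow_flat ((Ideal.span (Set.range f)).map (algebraMap S B)) ?_ fun n => ?_
  · rw [IsLocalRing.jacobson_eq_maximalIdeal ⊥ bot_ne_top, Ideal.map_le_iff_le_comap]
    refine Ideal.span_le.2 (Set.range_subset_iff.2 fun i => ?_)
    exact (IsLocalization.AtPrime.to_map_mem_maximal_iff B Q (f i)).2 (hQ i)
  · rw [← Ideal.map_pow]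
    haveI := h
    exact flat_quot_atPrime _ Q B (QRegBC.flat_pow (A := R) f hf n)

section baseChange

variable {R S : Type u} [CommRing R] [CommRing S] [Algebra R S] (T : Type u) [CommRing T] [Algebra R T]
  {c : ℕ} (f : Fin c → S)

/-- Vanishing in the base change of the relations modulo the trivial ones. -/
theorem mem_trivRel_of_tmul_eq_zero (k : Fin c → S)
    (hk : (1 : T) ⊗ₜ[R] (trivRel f).mkQ k = 0) :
    (fun i => (1 : T) ⊗ₜ[R] k i) ∈ trivRel (fun i => (1 : T) ⊗ₜ[R] f i : Fin c → T ⊗[R] S) := by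
  classical
  let N := (trivRel f).restrictScalars R
  let π : (Fin c → S) →ₗ[R] (Fin c → S) ⧸ trivRel f := (trivRel f).mkQ.restrictScalars R
  let Φ : T ⊗[R] (Fin c → S) →ₗ[R] (Fin c → T ⊗[R] S) :=
    LinearMap.pi fun i => (LinearMap.proj i : (Fin c → S) →ₗ[R] S).lTensor T
  have hex : Function.Exact N.subtype π := fun y =>
    ⟨fun h => ⟨⟨y, (Submodule.Quotient.mk_eq_zero _).1 h⟩, rfl⟩,
      fun ⟨v, hv⟩ => hv ▸ (Submodule.Quotient.mk_eq_zero _).2 v.2⟩
  obtain ⟨w, hw⟩ := (lTensor_exact T hex (Submodule.mkQ_surjective _) ((1 : T) ⊗ₜ[R] k)).1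
    (by rw [LinearMap.lTensor_tmul]; exact hk)
  have hincl : ∀ v ∈ trivRel f,
      (fun i => (1 : T) ⊗ₜ[R] v i) ∈ trivRel (fun i => (1 : T) ⊗ₜ[R] f i : Fin c → T ⊗[R] S) := by
    intro v hv
    induction hv using Submodule.span_induction with
    | mem x hx =>
      obtain ⟨i, j, rfl⟩ := hx
      refine Submodule.subset_span ⟨i, j, funext fun l => ?_⟩
      simp only [Pi.sub_apply, Pi.single_apply, TensorProduct.tmul_sub]
      split_ifs <;> simp
    | zero =>
      rw [show (fun i => (1 : T) ⊗ₜ[R] (0 : Fin c → S) i) = 0 from funext fun i => TensorProduct.tmul_zero _ _]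
      exact zero_mem _
    | add x y _ _ hx hy =>
      rw [show (fun i => (1 : T) ⊗ₜ[R] (x + y) i) = (fun i => (1 : T) ⊗ₜ[R] x i) + fun i => (1 : T) ⊗ₜ[R] y i from
        funext fun i => TensorProduct.tmul_add _ _ _]
      exact add_mem hx hy
    | smul r x _ hx =>
      rw [show (fun i => (1 : T) ⊗ₜ[R] (r • x) i) = ((1 : T) ⊗ₜ[R] r) • fun i => (1 : T) ⊗ₜ[R] x i from
        funext fun i => by
          show _ = ((1 : T) ⊗ₜ[R] r) * ((1 : T) ⊗ₜ[R] x i)
          rw [Algebra.TensorProduct.tmul_mul_tmul, one_mul]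
          rfl]
      exact Submodule.smul_mem _ _ hx
  have hall : ∀ w : T ⊗[R] N,
      Φ (N.subtype.lTensor T w) ∈ trivRel (fun i => (1 : T) ⊗ₜ[R] f i : Fin c → T ⊗[R] S) := by
    intro w
    induction w using TensorProduct.induction_on with
    | zero => rw [map_zero, map_zero]; exact zero_mem _
    | tmul t v =>
      rw [show Φ (N.subtype.lTensor T (t ⊗ₜ[R] v)) = (t ⊗ₜ[R] (1 : S)) • fun i => (1 : T) ⊗ₜ[R] v.1 i from
        funext fun i => by
          show t ⊗ₜ[R] v.1 i = (t ⊗ₜ[R] (1 : S)) * ((1 : T) ⊗ₜ[R] v.1 i)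
          rw [Algebra.TensorProduct.tmul_mul_tmul, mul_one, one_mul]]
      exact Submodule.smul_mem _ _ (hincl v.1 v.2)
    | add x y hx hy => rw [map_add, map_add]; exact add_mem hx hy
  have h1 := hall w
  rw [hw] at h1
  exact h1

/-- An H1-regular sequence with flat quotient stays one after a base change killing the relations. -/
theorem h1_baseChange (hflat : Module.Flat R (S ⧸ Ideal.span (Set.range f)))
    (hK : ∀ k : Fin c → S, ∑ i, k i * f i = 0 → (1 : T) ⊗ₜ[R] (trivRel f).mkQ k = 0) :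
    CAlgX.IsH1Regular (fun i => ((1 : T) ⊗ₜ[R] f i : T ⊗[R] S)) := by
  classical
  intro z hz
  show z ∈ trivRel _
  let μ : (Fin c → S) →ₗ[R] S := (Fintype.linearCombination S f).restrictScalars R
  let μ' : (Fin c → S) →ₗ[R] LinearMap.range μ := μ.rangeRestrict
  let q : S →ₗ[R] S ⧸ Ideal.span (Set.range f) := (Ideal.Quotient.mkₐ R _).toLinearMap
  have hμ0 : ∀ v, μ v = ∑ i, v i * f i := fun v => by
    simp [μ, Fintype.linearCombination_apply]
  have hex : Function.Exact (LinearMap.range μ).subtype q := by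
    intro y
    show Ideal.Quotient.mk (Ideal.span (Set.range f)) y = 0 ↔ _
    rw [Ideal.Quotient.eq_zero_iff_mem, Ideal.mem_span_range_iff_exists_fun]
    constructor
    · rintro ⟨v, rfl⟩
      exact ⟨⟨_, v, hμ0 v⟩, rfl⟩
    · rintro ⟨⟨_, v, rfl⟩, rfl⟩
      exact ⟨v, (hμ0 v).symm⟩
  haveI := hflat
  have hinj := LinearMap.lTensor_injective_of_exact_of_flat q Ideal.Quotient.mk_surjective
    (LinearMap.range μ).subtype (LinearMap.range μ).subtype_injective hex T
  let Φ : T ⊗[R] (Fin c → S) →ₗ[R] (Fin c → T ⊗[R] S) :=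
    LinearMap.pi fun i => (LinearMap.proj i : (Fin c → S) →ₗ[R] S).lTensor T
  have hμ : ∀ w, μ.lTensor T w = ∑ i, Φ w i * ((1 : T) ⊗ₜ[R] f i) := fun w => by
    induction w using TensorProduct.induction_on with
    | zero => simp
    | tmul t v =>
      rw [LinearMap.lTensor_tmul, hμ0, TensorProduct.tmul_sum]
      refine Finset.sum_congr rfl fun i _ => ?_
      show _ = (t ⊗ₜ[R] v i) * _
      rw [Algebra.TensorProduct.tmul_mul_tmul, mul_one]
    | add x y hx hy =>
      rw [map_add, hx, hy, ← Finset.sum_add_distrib]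
      refine Finset.sum_congr rfl fun i _ => ?_
      rw [map_add, Pi.add_apply, add_mul]
  let w : T ⊗[R] (Fin c → S) := ∑ j, (LinearMap.single R (fun _ : Fin c => S) j).lTensor T (z j)
  have hw : Φ w = z := funext fun i => by
    show (LinearMap.proj i : (Fin c → S) →ₗ[R] S).lTensor T w = z i
    rw [map_sum, Finset.sum_eq_single i]
    · rw [← LinearMap.comp_apply, ← LinearMap.lTensor_comp]
      rw [show (LinearMap.proj i : (Fin c → S) →ₗ[R] S).comp (LinearMap.single R (fun _ : Fin c => S) i) =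
        LinearMap.id from LinearMap.ext fun x => by simp]
      rw [LinearMap.lTensor_id, LinearMap.id_apply]
    · intro j _ hj
      rw [← LinearMap.comp_apply, ← LinearMap.lTensor_comp]
      rw [show (LinearMap.proj i : (Fin c → S) →ₗ[R] S).comp (LinearMap.single R (fun _ : Fin c => S) j) =
        0 from LinearMap.ext fun x => by simp [Pi.single_eq_of_ne hj.symm]]
      rw [LinearMap.lTensor_zero, LinearMap.zero_apply]
    · intro hi; exact absurd (Finset.mem_univ i) hi
  have hz' : μ'.lTensor T w = 0 := hinj (by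
    rw [map_zero, ← LinearMap.comp_apply, ← LinearMap.lTensor_comp,
      show (LinearMap.range μ).subtype ∘ₗ μ' = μ from rfl, hμ, hw]
    exact hz)
  obtain ⟨v, hv⟩ := (lTensor_exact T (LinearMap.exact_subtype_ker_map μ') μ.surjective_rangeRestrict w).1 hz'
  rw [← hw, ← hv]
  clear hv hz'
  induction v using TensorProduct.induction_on with
  | zero => rw [map_zero, map_zero]; exact zero_mem _
  | tmul t k =>
    have hk : μ (k : Fin c → S) = 0 := congrArg Subtype.val k.2
    rw [show Φ ((LinearMap.ker μ').subtype.lTensor T (t ⊗ₜ[R] k)) =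
        (t ⊗ₜ[R] (1 : S)) • fun i => (1 : T) ⊗ₜ[R] (k : Fin c → S) i from funext fun i => by
      show t ⊗ₜ[R] (k : Fin c → S) i = (t ⊗ₜ[R] (1 : S)) * ((1 : T) ⊗ₜ[R] (k : Fin c → S) i)
      rw [Algebra.TensorProduct.tmul_mul_tmul, mul_one, one_mul]]
    exact Submodule.smul_mem _ _ (mem_trivRel_of_tmul_eq_zero T f _ (hK _ ((hμ0 _).symm.trans hk)))
  | add x y hx hy => rw [map_add, map_add]; exact add_mem hx hy

/-- A trivial relation of the base change vanishes modulo trivial relations. -/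
theorem tmul_eq_zero_of_mem_trivRel (k : Fin c → S)
    (hk : (fun i => (1 : T) ⊗ₜ[R] k i) ∈ trivRel (fun i => (1 : T) ⊗ₜ[R] f i : Fin c → T ⊗[R] S)) :
    (1 : T) ⊗ₜ[R] (trivRel f).mkQ k = 0 := by
  classical
  let π : (Fin c → S) →ₗ[R] (Fin c → S) ⧸ trivRel f := (trivRel f).mkQ.restrictScalars R
  let Ψ : (Fin c → T ⊗[R] S) →ₗ[R] T ⊗[R] ((Fin c → S) ⧸ trivRel f) :=
    ∑ i, (π.comp (LinearMap.single R (fun _ : Fin c => S) i)).lTensor T ∘ₗ LinearMap.proj i
  have hΨ : ∀ z, Ψ z = ∑ i, (π.comp (LinearMap.single R (fun _ : Fin c => S) i)).lTensor T (z i) := fun z => by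
    simp [Ψ, LinearMap.sum_apply]
  have hsingle : ∀ (i : Fin c) (t : T) (a : S), Ψ (Pi.single i (t ⊗ₜ[R] a)) = t ⊗ₜ[R] π (Pi.single i a) := by
    intro i t a
    rw [hΨ, Finset.sum_eq_single i]
    · rw [Pi.single_eq_same, LinearMap.lTensor_tmul]
      rfl
    · intro j _ hj
      rw [Pi.single_eq_of_ne hj, map_zero]
    · intro hi; exact absurd (Finset.mem_univ i) hi
  have key : ∀ z ∈ trivRel (fun i => (1 : T) ⊗ₜ[R] f i : Fin c → T ⊗[R] S),
      ∀ s : T ⊗[R] S, Ψ (s • z) = 0 := by
    intro z hz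
    induction hz using Submodule.span_induction with
    | mem x hx =>
      obtain ⟨i, j, rfl⟩ := hx
      intro s
      induction s using TensorProduct.induction_on with
      | zero => rw [zero_smul, map_zero]
      | tmul t a =>
        rw [smul_sub, ← Pi.single_smul, ← Pi.single_smul, map_sub, smul_eq_mul, smul_eq_mul,
          Algebra.TensorProduct.tmul_mul_tmul, Algebra.TensorProduct.tmul_mul_tmul, mul_one, hsingle, hsingle,
          ← TensorProduct.tmul_sub, ← map_sub]
        have : Pi.single i (a * f j) - Pi.single j (a * f i) ∈ trivRel f := by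
          rw [← smul_eq_mul, ← smul_eq_mul, Pi.single_smul, Pi.single_smul, ← smul_sub]
          exact Submodule.smul_mem _ _ (Submodule.subset_span ⟨i, j, rfl⟩)
        rw [show π (Pi.single i (a * f j) - Pi.single j (a * f i)) = 0 from
          (Submodule.Quotient.mk_eq_zero _).2 this, TensorProduct.tmul_zero]
      | add x y hx hy => rw [add_smul, map_add, hx, hy, add_zero]
    | zero => intro s; rw [smul_zero, map_zero]
    | add x y _ _ hx hy => intro s; rw [smul_add, map_add, hx, hy, add_zero]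
    | smul r x _ hx => intro s; rw [smul_smul]; exact hx _
  have h1 := key _ hk 1
  rw [one_smul, hΨ] at h1
  have h2 : ∑ i, (π.comp (LinearMap.single R (fun _ : Fin c => S) i)).lTensor T ((1 : T) ⊗ₜ[R] k i) =
      (1 : T) ⊗ₜ[R] (trivRel f).mkQ k := by
    simp only [LinearMap.lTensor_tmul, ← TensorProduct.tmul_sum, LinearMap.comp_apply]
    rw [← map_sum]
    congr 1
    show π _ = π k
    congr 1
    exact Finset.univ_sum_single k
  rw [← h2]
  exact h1

end baseChange

/-- A finitely generated module killed in a tensor product is killed over a finitely generated subalgebra. -/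
theorem exists_fg_kills_mod {R O S M : Type u} [CommRing R] [CommRing O] [CommRing S] [Algebra R O] [Algebra R S]
    [AddCommGroup M] [Module R M] [Module S M] [IsScalarTower R S M]
    (K : Submodule S M) (hK : K.FG) (h : ∀ k ∈ K, (1 : O) ⊗ₜ[R] k = 0) :
    ∃ B : Subalgebra R O, B.FG ∧ ∀ k ∈ K, (1 : B) ⊗ₜ[R] k = 0 := by
  classical
  obtain ⟨G, rfl⟩ := hK
  have key : ∀ s : Finset M, s ⊆ G → ∃ B : Subalgebra R O, B.FG ∧ ∀ k ∈ s, (1 : B) ⊗ₜ[R] k = 0 := by
    intro s
    induction s using Finset.induction_on with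
    | empty => exact fun _ => ⟨⊥, Subalgebra.fg_bot, fun k hk => absurd hk (Finset.notMem_empty k)⟩
    | insert k s _ ih =>
      intro hs
      obtain ⟨B, hB, hBk⟩ := ih ((Finset.subset_insert k s).trans hs)
      obtain ⟨B', hle, hB', he⟩ := TensorProduct.Algebra.eq_of_fg_of_subtype_eq hB
        (t := (1 : B) ⊗ₜ[R] k) (t' := 0)
        (by rw [map_zero, LinearMap.rTensor_tmul]
            exact h k (Submodule.subset_span (hs (Finset.mem_insert_self k s))))
      refine ⟨B', hB', fun j hj => ?_⟩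
      rcases Finset.mem_insert.1 hj with rfl | hj
      · rw [map_zero, LinearMap.rTensor_tmul] at he
        exact he
      · have h2 := congrArg (LinearMap.rTensor M (Subalgebra.inclusion hle).toLinearMap) (hBk j hj)
        rw [map_zero, LinearMap.rTensor_tmul] at h2
        exact h2
  obtain ⟨B, hB, hBG⟩ := key G subset_rfl
  refine ⟨B, hB, fun k hk => ?_⟩
  induction hk using Submodule.span_induction with
  | mem x hx => exact hBG x hx
  | zero => exact TensorProduct.tmul_zero _ _
  | add x y _ _ hx hy => rw [TensorProduct.tmul_add, hx, hy, add_zero]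
  | smul c x _ hx =>
    have := congrArg (((LinearMap.lsmul S M c).restrictScalars R).lTensor B) hx
    rw [LinearMap.lTensor_tmul, map_zero] at this
    exact this

/-- The quotient of a base change by a finite family. -/
theorem flat_quotSeq_baseChange {R T S : Type u} [CommRing R] [CommRing T] [CommRing S] [Algebra R T] [Algebra R S]
    {c : ℕ} (f : Fin c → S) (h : Module.Flat R (S ⧸ Ideal.span (Set.range f))) :
    Module.Flat T ((T ⊗[R] S) ⧸ Ideal.span (Set.range fun i => (1 : T) ⊗ₜ[R] f i)) := by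
  haveI := h
  have heq : (Ideal.span (Set.range f)).map (Algebra.TensorProduct.includeRight (A := T) (R := R)) =
      Ideal.span (Set.range fun i => (1 : T) ⊗ₜ[R] f i) := by
    rw [Ideal.map_span, ← Set.range_comp]
    rfl
  exact Module.Flat.of_linearEquiv ((Algebra.TensorProduct.tensorQuotientEquiv (R := R) T S T
    (Ideal.span (Set.range f))).trans (Ideal.quotientEquivAlgOfEq T heq)).symm.toLinearEquiv

/-- The Noetherian case, on a spectrum. -/
theorem flat_stalk_noeth_seq {R S : Type u} [CommRing R] [CommRing S] [Algebra R S] [IsNoetherianRing S]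
    {c : ℕ} (f : Fin c → S) (hf : CAlgX.IsQuasiRegular f)
    (h : Module.Flat R (S ⧸ Ideal.span (Set.range f)))
    (q : Spec (CommRingCat.of S)) (hq : ∀ i, f i ∈ (q : PrimeSpectrum S).asIdeal) :
    ((Spec.map (CommRingCat.ofHom (algebraMap R S))).stalkMap q).hom.Flat := by
  let Q : Ideal S := (q : PrimeSpectrum S).asIdeal
  let B := Localization.AtPrime Q
  haveI : IsNoetherianRing B := IsLocalization.isNoetherianRing Q.primeCompl B inferInstance
  haveI : Module.Flat R B := flat_atPrime_of_quasi f hf h Q hq B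
  refine (FlatLocus.stalkMap_flat_SpecMap (CommRingCat.ofHom (algebraMap R S)) q).2 ?_
  have he : (CommRingCat.ofHom (algebraMap R S)).hom.toAlgebra = (inferInstance : Algebra R S) :=
    Algebra.algebra_ext _ _ fun _ => rfl
  rw [he]
  exact Module.Flat.of_linearEquiv
    ((IsLocalizedModule.iso Q.primeCompl (Algebra.linearMap S B)).restrictScalars R)

/-- Flatness along the zero locus, given a Noetherian model with flat quotient. -/
theorem flat_stalk_of_seq_model {R₁ O S₁ A : Type u} [CommRing R₁] [CommRing O] [CommRing S₁] [CommRing A]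
    [Algebra R₁ O] [Algebra R₁ S₁] [Algebra R₁ A] [Algebra O A] [Algebra S₁ A]
    [IsScalarTower R₁ O A] [IsScalarTower R₁ S₁ A]
    [IsNoetherianRing R₁] [Algebra.FiniteType R₁ S₁]
    (hsq : IsPushout (CommRingCat.ofHom (algebraMap R₁ O)) (CommRingCat.ofHom (algebraMap R₁ S₁))
      (CommRingCat.ofHom (algebraMap O A)) (CommRingCat.ofHom (algebraMap S₁ A)))
    {c : ℕ} (f₁ : Fin c → S₁) (hflat : Module.Flat R₁ (S₁ ⧸ Ideal.span (Set.range f₁)))
    (hf : CAlgX.IsH1Regular fun i => algebraMap S₁ A (f₁ i)) (q : Spec (CommRingCat.of A))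
    (hq : ∀ i, algebraMap S₁ A (f₁ i) ∈ (q : PrimeSpectrum A).asIdeal) :
    ((Spec.map (CommRingCat.ofHom (algebraMap O A))).stalkMap q).hom.Flat := by
  classical
  haveI : Algebra.IsPushout R₁ O S₁ A := CommRingCat.isPushout_iff_isPushout.1 hsq
  haveI : IsNoetherianRing S₁ := Algebra.FiniteType.isNoetherianRing R₁ S₁
  let e := Algebra.IsPushout.equiv R₁ O S₁ A
  have he : ∀ s : S₁, e ((1 : O) ⊗ₜ[R₁] s) = algebraMap S₁ A s := fun s => by
    rw [Algebra.IsPushout.equiv_tmul, map_one, one_mul]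
  have hh1 : CAlgX.IsH1Regular fun i => ((1 : O) ⊗ₜ[R₁] f₁ i : O ⊗[R₁] S₁) := by
    have h1 := seqP_ringEquiv (k := .h1) e.toRingEquiv.symm hf
    change CAlgX.IsH1Regular _ at h1
    convert h1 using 1
    funext i
    exact e.injective (by rw [he]; exact (e.apply_symm_apply _).symm)
  let K : Submodule S₁ ((Fin c → S₁) ⧸ trivRel f₁) :=
    (LinearMap.ker (Fintype.linearCombination S₁ f₁)).map (trivRel f₁).mkQ
  obtain ⟨R₂, hR₂, hkill⟩ := exists_fg_kills_mod (R := R₁) (O := O) K (IsNoetherian.noetherian K) fun k hk => by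
    obtain ⟨k, hk, rfl⟩ := hk
    refine tmul_eq_zero_of_mem_trivRel O f₁ k (hh1 _ ?_)
    have hk' : ∑ i, k i * f₁ i = 0 := by
      rw [← (LinearMap.mem_ker.1 hk : Fintype.linearCombination S₁ f₁ k = 0)]
      simp [Fintype.linearCombination_apply]
    simp only [Algebra.TensorProduct.tmul_mul_tmul, one_mul, ← TensorProduct.tmul_sum, hk', TensorProduct.tmul_zero]
  haveI : Algebra.FiniteType R₁ R₂ := (Subalgebra.fg_iff_finiteType R₂).1 hR₂
  haveI : IsNoetherianRing R₂ := Algebra.FiniteType.isNoetherianRing R₁ R₂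
  let S₂ := R₂ ⊗[R₁] S₁
  haveI : IsNoetherianRing S₂ := Algebra.FiniteType.isNoetherianRing R₂ S₂
  let f₂ : Fin c → S₂ := fun i => (1 : R₂) ⊗ₜ[R₁] f₁ i
  have hh2 : CAlgX.IsH1Regular f₂ :=
    h1_baseChange R₂ f₁ hflat fun k hk => hkill _ ⟨k, LinearMap.mem_ker.2 (by
      rw [← hk]; simp [Fintype.linearCombination_apply]), rfl⟩
  have hflat₂ : Module.Flat R₂ (S₂ ⧸ Ideal.span (Set.range f₂)) := flat_quotSeq_baseChange f₁ hflat
  let ψₐ : S₂ →ₐ[R₁] A :=
    Algebra.TensorProduct.lift ((IsScalarTower.toAlgHom R₁ O A).comp R₂.val)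
      (IsScalarTower.toAlgHom R₁ S₁ A) fun _ _ => mul_comm _ _
  let ψ : S₂ →+* A := ψₐ.toRingHom
  have hψf : ∀ i, ψ (f₂ i) = algebraMap S₁ A (f₁ i) := fun i => by
    show ψₐ ((1 : R₂) ⊗ₜ[R₁] f₁ i) = _
    exact (Algebra.TensorProduct.lift_tmul _ _ _ _ _).trans (by rw [map_one, one_mul]; rfl)
  have sqL := CommRingCat.isPushout_tensorProduct R₁ R₂ S₁
  have sq₂ : IsPushout (CommRingCat.ofHom R₂.val.toRingHom) (CommRingCat.ofHom (algebraMap R₂ S₂))
      (CommRingCat.ofHom (algebraMap O A)) (CommRingCat.ofHom ψ) := by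
    refine IsPushout.of_left ?_ ?_ sqL
    · have e1 : CommRingCat.ofHom (algebraMap R₁ R₂) ≫ CommRingCat.ofHom R₂.val.toRingHom =
          CommRingCat.ofHom (algebraMap R₁ O) := CommRingCat.hom_ext R₂.val.comp_algebraMap
      have e2 : CommRingCat.ofHom (Algebra.TensorProduct.includeRight (R := R₁) (A := R₂) (B := S₁)).toRingHom ≫
          CommRingCat.ofHom ψ = CommRingCat.ofHom (algebraMap S₁ A) := by
        refine CommRingCat.hom_ext (RingHom.ext fun s => ?_)
        show ψₐ ((1 : R₂) ⊗ₜ[R₁] s) = _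
        exact (Algebra.TensorProduct.lift_tmul _ _ _ _ _).trans (by rw [map_one, one_mul]; rfl)
      rw [e1, e2]
      exact hsq
    · refine CommRingCat.hom_ext (RingHom.ext fun r => ?_)
      show algebraMap O A (R₂.val r) = ψ (r ⊗ₜ[R₁] (1 : S₁))
      show _ = ψₐ (r ⊗ₜ[R₁] (1 : S₁))
      exact ((Algebra.TensorProduct.lift_tmul _ _ _ _ _).trans (by rw [map_one, mul_one]; rfl)).symm
  have sqS := (isPullback_SpecMap_of_isPushout _ _ _ _ sq₂).flip
  haveI : LocallyOfFinitePresentation (Spec.map (CommRingCat.ofHom (algebraMap R₂ S₂))) :=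
    HasRingHomProperty.Spec_iff.2 (RingHom.FinitePresentation.of_finiteType.1
      (RingHom.finiteType_algebraMap.2 inferInstance))
  refine FibFlat.flat_stalk_of_isPullback sqS q ?_
  refine flat_stalk_noeth_seq f₂ (Groth.Agent.S2103.result f₂ hh2) hflat₂ _ fun i => ?_
  show ψ (f₂ i) ∈ (q : PrimeSpectrum A).asIdeal
  rw [hψf]
  exact hq i

/-- Flatness along the zero locus from a presentation defined over a Noetherian ring. -/
theorem flat_stalk_of_seq_presentation {O A R₀ R₁ : Type u} [CommRing O] [CommRing A] [Algebra O A]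
    [CommRing R₀] [CommRing R₁] [IsNoetherianRing R₁] [Algebra R₀ R₁] [Algebra R₁ O] [Algebra R₀ O]
    [IsScalarTower R₀ R₁ O] {n c : ℕ} (π : MvPolynomial (Fin n) O →ₐ[O] A) (hπ : Function.Surjective π)
    (I₀ : Ideal (MvPolynomial (Fin n) R₀)) (F₀ : Fin c → MvPolynomial (Fin n) R₀)
    (hI : RingHom.ker π.toRingHom = I₀.map (MvPolynomial.map (algebraMap R₀ O))) {f : Fin c → A}
    (hF : ∀ i, π (MvPolynomial.map (algebraMap R₀ O) (F₀ i)) = f i)
    (hflat₁ : Module.Flat R₁ (MvPolynomial (Fin n) R₁ ⧸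
      (I₀ ⊔ Ideal.span (Set.range F₀)).map (MvPolynomial.map (algebraMap R₀ R₁))))
    (hf : CAlgX.IsH1Regular f) (q : Spec (CommRingCat.of A))
    (hq : ∀ i, f i ∈ (q : PrimeSpectrum A).asIdeal) :
    ((Spec.map (CommRingCat.ofHom (algebraMap O A))).stalkMap q).hom.Flat := by
  letI : Algebra R₁ A := ((algebraMap O A).comp (algebraMap R₁ O)).toAlgebra
  haveI : IsScalarTower R₁ O A := IsScalarTower.of_algebraMap_eq fun _ => rfl
  let m₁ := MvPolynomial.map (σ := Fin n) (algebraMap R₀ R₁)
  let I₁ : Ideal (MvPolynomial (Fin n) R₁) := I₀.map m₁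
  let S₁ := MvPolynomial (Fin n) R₁ ⧸ I₁
  let f₁ : Fin c → S₁ := fun i => Ideal.Quotient.mk I₁ (m₁ (F₀ i))
  have hflatS : Module.Flat R₁ (S₁ ⧸ Ideal.span (Set.range f₁)) := by
    have he : (I₀ ⊔ Ideal.span (Set.range F₀)).map m₁ = I₁ ⊔ Ideal.span (Set.range fun i => m₁ (F₀ i)) := by
      rw [Ideal.map_sup, Ideal.map_span, ← Set.range_comp]
      rfl
    have he2 : (Ideal.span (Set.range fun i => m₁ (F₀ i))).map (Ideal.Quotient.mkₐ R₁ I₁) =
        Ideal.span (Set.range f₁) := by
      rw [Ideal.map_span, ← Set.range_comp]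
      rfl
    haveI := hflat₁
    exact Module.Flat.of_linearEquiv (((Ideal.quotientEquivAlgOfEq R₁ he2.symm).trans
      (DoubleQuot.quotQuotEquivQuotSupₐ R₁ I₁ (Ideal.span (Set.range fun i => m₁ (F₀ i))))).trans
        (Ideal.quotientEquivAlgOfEq R₁ he.symm)).toLinearEquiv
  have hmm : (MvPolynomial.map (σ := Fin n) (algebraMap R₁ O)).comp m₁ = MvPolynomial.map (algebraMap R₀ O) :=
    RingHom.ext fun x => by
      rw [RingHom.comp_apply, MvPolynomial.map_map, ← IsScalarTower.algebraMap_eq]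
  obtain ⟨j, hj, hsq⟩ := FibFlat.exists_isPushout_presentation (algebraMap R₁ O) π.toRingHom hπ I₁
    (by rw [hI, Ideal.map_map, hmm])
  have hπC : π.toRingHom.comp MvPolynomial.C = algebraMap O A := RingHom.ext fun x => π.commutes x
  rw [hπC] at hsq
  letI : Algebra S₁ A := j.toAlgebra
  haveI : IsScalarTower R₁ S₁ A := IsScalarTower.of_algebraMap_eq (R := R₁) (S := S₁) (A := A) fun r => by
    show algebraMap O A (algebraMap R₁ O r) = j ((Ideal.Quotient.mk I₁) (MvPolynomial.C r))
    exact RingHom.congr_fun (congrArg CommRingCat.Hom.hom hsq.w) r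
  have hf₁ : ∀ i, algebraMap S₁ A (f₁ i) = f i := fun i => by
    show j (Ideal.Quotient.mk I₁ (m₁ (F₀ i))) = f i
    rw [hj]
    show π (((MvPolynomial.map (algebraMap R₁ O)).comp m₁) (F₀ i)) = f i
    rw [hmm, hF]
  refine flat_stalk_of_seq_model (R₁ := R₁) hsq f₁ hflatS ?_ q fun i => (hf₁ i).symm ▸ hq i
  rw [show (fun i => algebraMap S₁ A (f₁ i)) = f from funext hf₁]
  exact hf

/-- A finitely presented algebra is flat along the zero locus of an H1-regular sequence with flat quotient. -/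
theorem flat_stalk_of_h1 {O A : Type u} [CommRing O] [CommRing A] [Algebra O A]
    [Algebra.FinitePresentation O A] {m : ℕ} (f : Fin m → A) (hf : CAlgX.IsH1Regular f)
    (hflat : Module.Flat O (A ⧸ Ideal.span (Set.range f))) (q : Spec (CommRingCat.of A))
    (hq : ∀ i, f i ∈ (q : PrimeSpectrum A).asIdeal) :
    ((Spec.map (CommRingCat.ofHom (algebraMap O A))).stalkMap q).hom.Flat := by
  classical
  obtain ⟨n, π, hπ, sf, hsf⟩ := Algebra.FinitePresentation.out (R := O) (A := A)
  choose F hF using fun i => hπ (f i)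
  let c : Finset O := (sf.biUnion fun g => g.coeffs) ∪ Finset.univ.biUnion fun i => (F i).coeffs
  let R₀ : Subalgebra ℤ O := Algebra.adjoin ℤ (c : Set O)
  have : Algebra.FiniteType ℤ R₀ := (Subalgebra.fg_iff_finiteType R₀).1 (Subalgebra.fg_adjoin_finset c)
  have : IsNoetherianRing R₀ := Algebra.FiniteType.isNoetherianRing ℤ R₀
  have hdesc : ∀ g : MvPolynomial (Fin n) O, (g.coeffs : Set O) ⊆ c →
      ∃ g₀ : MvPolynomial (Fin n) R₀, MvPolynomial.map (algebraMap R₀ O) g₀ = g := fun g hg =>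
    MvPolynomial.mem_range_map_iff_coeffs_subset.2 fun x hx => ⟨⟨x, Algebra.subset_adjoin (hg hx)⟩, rfl⟩
  choose F₀ hF₀ using fun i => hdesc (F i) fun x hx =>
    Finset.mem_union_right _ (Finset.mem_biUnion.2 ⟨i, Finset.mem_univ i, hx⟩)
  let I₀ : Ideal (MvPolynomial (Fin n) R₀) := Ideal.span {g | MvPolynomial.map (algebraMap R₀ O) g ∈ sf}
  let J₀ : Ideal (MvPolynomial (Fin n) R₀) := I₀ ⊔ Ideal.span (Set.range F₀)
  have hI : RingHom.ker π.toRingHom = I₀.map (MvPolynomial.map (algebraMap R₀ O)) := by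
    refine le_antisymm ?_ (Ideal.map_le_iff_le_comap.2 (Ideal.span_le.2 fun g hg => hsf.le (Submodule.subset_span hg)))
    refine hsf.ge.trans (Submodule.span_le.2 fun g hg => ?_)
    obtain ⟨g₀, rfl⟩ := hdesc g fun x hx => Finset.mem_union_left _ (Finset.mem_biUnion.2 ⟨g, hg, hx⟩)
    exact Ideal.mem_map_of_mem _ (Ideal.subset_span hg)
  let π' : MvPolynomial (Fin n) O →ₐ[O] A ⧸ Ideal.span (Set.range f) := (Ideal.Quotient.mkₐ O _).comp π
  have hπ' : Function.Surjective π' := Ideal.Quotient.mk_surjective.comp hπ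
  have hJ : RingHom.ker π'.toRingHom = J₀.map (MvPolynomial.map (algebraMap R₀ O)) := by
    rw [Ideal.map_sup, ← hI, Ideal.map_span, ← Set.range_comp,
      show (⇑(MvPolynomial.map (algebraMap R₀ O)) ∘ F₀) = F from funext hF₀]
    show RingHom.ker ((Ideal.Quotient.mk (Ideal.span (Set.range f))).comp π.toRingHom) = _
    rw [← RingHom.comap_ker, Ideal.mk_ker,
      show Ideal.span (Set.range f) = (Ideal.span (Set.range F)).map π.toRingHom by
        rw [Ideal.map_span, ← Set.range_comp]; exact congrArg (fun t => Ideal.span (Set.range t)) (funext hF).symm,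
      Ideal.comap_map_of_surjective π.toRingHom hπ, sup_comm]
    rfl
  have hflatC : FlatModel.FlatC (FibFlat.relMod J₀) O := by
    rw [FibFlat.flatC_relMod_iff, ← hJ]
    haveI := hflat
    exact Module.Flat.of_linearEquiv (Ideal.quotientKerAlgEquivOfSurjective hπ').toLinearEquiv
  obtain ⟨R₁, hR₁, hflat₁⟩ := FlatModel.exists_fg_flatC (FibFlat.relMod J₀) hflatC
  rw [FibFlat.flatC_relMod_iff] at hflat₁
  have : Algebra.FiniteType R₀ R₁ := (Subalgebra.fg_iff_finiteType R₁).1 hR₁
  have : IsNoetherianRing R₁ := Algebra.FiniteType.isNoetherianRing R₀ R₁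
  exact flat_stalk_of_seq_presentation (R₀ := R₀) (R₁ := R₁) π hπ I₀ F₀ hI
    (fun i => (hF₀ i).symm ▸ hF i) hflat₁ hf q hq

end Groth.Agent.FlatX
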