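import Mathlib
import Groth.Agent.FlatX.RelQuasi
import Groth.Agent.FlatX.H1Flat

/-!
The ambient scheme of a relative quasi-regular or H1-regular immersion is flat along the subscheme.
-/

set_option autoImplicit false
set_option linter.style.haveILetI false
set_option backward.isDefEq.respectTransparency.types false

universe u

open CategoryTheory CategoryTheory.Limits AlgebraicGeometry IsLocalRing
open Groth.Agent.KRegLib Groth.Agent.RegImmLib

namespace Groth.Agent.FlatX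

variable {Z X S : Scheme.{u}}

/-- A chart of an immersion with flat source and a generating sequence. -/
theorem exists_flat_chart (k : RegImm.Kind) (f : X ⟶ S) (i : Z ⟶ X)
    (hi : RegImm.IsRelRegularImmersion k f i) (z : Z) :
    ∃ (U₀ : X.affineOpens) (g : Γ(X, U₀.1)) (V : S.affineOpens) (e : X.basicOpen g ≤ f ⁻¹ᵁ V.1)
      (rs : List Γ(X, U₀.1)),
      i z ∈ X.basicOpen g ∧ k.Seq Γ(X, U₀.1) rs ∧
        (letI := (f.appLE V.1 (X.basicOpen g) e).hom.toAlgebra
         Module.Flat Γ(S, V.1) (Γ(X, X.basicOpen g) ⧸ Ideal.span (Set.range fun j : Fin rs.length =>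
          X.presheaf.map (homOfLE (X.basicOpen_le g)).op (rs.get j)))) ∧
        (∀ j : Fin rs.length, X.presheaf.map (homOfLE (X.basicOpen_le g)).op (rs.get j) ∈
          RingHom.ker (i.app (X.basicOpen g)).hom) := by
  obtain ⟨U, hzU, hci, rs, hrs, hker⟩ := hi.1.2 z
  haveI := hi.2
  obtain ⟨V, hV, hzV, -⟩ := exists_isAffineOpen_mem_and_subset (X := S) (x := f (i z)) (U := ⊤) trivial
  obtain ⟨g₁, hg₁, hzg₁⟩ := U.2.exists_basicOpen_le (V := f ⁻¹ᵁ V) ⟨i z, hzV⟩ hzU
  obtain ⟨hU', hUs⟩ := Synt29.surjective_app_of_isClosedImmersion_restrict i U.1 U.2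
  let U₁ := X.basicOpen g₁
  obtain ⟨hs₁, hU₁', hk₁⟩ := app_basicOpen_props i U.2 hU' hUs g₁
  let ρ := X.presheaf.map (homOfLE (X.basicOpen_le g₁)).op
  have hker₁ : RingHom.ker (i.app U₁).hom =
      Ideal.span (Set.range fun j : Fin rs.length => ρ (rs.get j)) := by
    refine hk₁.trans ?_
    rw [hker, show Ideal.ofList rs = Ideal.span (Set.range rs.get) from by rw [Ideal.ofList, Set.range_list_get],
      Ideal.map_span, ← Set.range_comp]
    rfl
  let O := Γ(S, V)
  let A := Γ(X, U₁)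
  letI : Algebra O A := (f.appLE V U₁ hg₁).hom.toAlgebra
  have hflat : Module.Flat O (A ⧸ Ideal.span (Set.range fun j : Fin rs.length => ρ (rs.get j))) := by
    have e' : i ⁻¹ᵁ U₁ ≤ (i ≫ f) ⁻¹ᵁ V := fun _ hy => hg₁ hy
    letI : Algebra O Γ(Z, i ⁻¹ᵁ U₁) := ((i ≫ f).appLE V (i ⁻¹ᵁ U₁) e').hom.toAlgebra
    haveI : Module.Flat O Γ(Z, i ⁻¹ᵁ U₁) := RingHom.flat_algebraMap_iff.1
      (HasRingHomProperty.appLE @Flat (i ≫ f) inferInstance ⟨V, hV⟩ ⟨_, hU₁'⟩ e')
    let π : A →ₐ[O] Γ(Z, i ⁻¹ᵁ U₁) :=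
      { toRingHom := (i.app U₁).hom
        commutes' := fun w => by
          show i.app U₁ (f.appLE V U₁ hg₁ w) = (i ≫ f).appLE V (i ⁻¹ᵁ U₁) e' w
          rw [show (i ≫ f).appLE V (i ⁻¹ᵁ U₁) e' = f.appLE V U₁ hg₁ ≫ i.app U₁ by
            rw [Scheme.Hom.app_eq_appLE, Scheme.Hom.appLE_comp_appLE]]
          rfl }
    exact Module.Flat.of_linearEquiv ((Ideal.quotientEquivAlgOfEq O
      (show Ideal.span (Set.range fun j : Fin rs.length => ρ (rs.get j)) = RingHom.ker π from hker₁.symm)).trans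
      (Ideal.quotientKerAlgEquivOfSurjective (f := π) hs₁)).toLinearEquiv
  have hmem : ∀ j : Fin rs.length, ρ (rs.get j) ∈ RingHom.ker (i.app U₁).hom := fun j =>
    hker₁.symm ▸ Ideal.subset_span ⟨j, rfl⟩
  exact ⟨U, g₁, ⟨V, hV⟩, hg₁, rs, hzg₁, hrs, hflat, hmem⟩

/-- The sequence of a chart lies in the prime of the point. -/
theorem mem_primeIdealOf_of_mem_ker (i : Z ⟶ X) {U : X.Opens} (hU : IsAffineOpen U) (z : Z) (hz : i z ∈ U)
    (a : Γ(X, U)) (ha : a ∈ RingHom.ker (i.app U).hom) : a ∈ (hU.primeIdealOf ⟨i z, hz⟩).asIdeal := by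
  by_contra h
  letI := X.presheaf.algebra_section_stalk (⟨i z, hz⟩ : U)
  haveI : IsLocalization.AtPrime (X.presheaf.stalk (i z)) (hU.primeIdealOf ⟨i z, hz⟩).asIdeal :=
    hU.isLocalization_stalk ⟨i z, hz⟩
  have hu : IsUnit (X.presheaf.germ U (i z) hz a) :=
    IsLocalization.map_units (X.presheaf.stalk (i z)) (⟨a, h⟩ : (hU.primeIdealOf ⟨i z, hz⟩).asIdeal.primeCompl)
  have h1 := hu.map (i.stalkMap z).hom
  rw [show (i.stalkMap z).hom (X.presheaf.germ U (i z) hz a) = Z.presheaf.germ (i ⁻¹ᵁ U) z hz (i.app U a) from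
    Scheme.Hom.germ_stalkMap_apply i U z hz a, show i.app U a = 0 from ha, map_zero] at h1
  exact not_isUnit_zero h1

/-- Transport of flatness from the spectrum of an affine chart. -/
theorem flat_stalkMap_of_spec (f : X ⟶ S) {V : S.Opens} (hV : IsAffineOpen V) {U : X.Opens}
    (hU : IsAffineOpen U) (e : U ≤ f ⁻¹ᵁ V) (x : X) (hx : x ∈ U)
    (h : ((Spec.map (f.appLE V U e)).stalkMap (hU.primeIdealOf ⟨x, hx⟩)).hom.Flat) :
    (f.stalkMap x).hom.Flat := by
  have key : ∀ q : Spec Γ(X, U), ((Spec.map (f.appLE V U e)).stalkMap q).hom.Flat →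
      (f.stalkMap (hU.fromSpec q)).hom.Flat := by
    intro q hflat
    have hsq : hU.fromSpec ≫ f = Spec.map (f.appLE V U e) ≫ hV.fromSpec :=
      (hV.SpecMap_appLE_fromSpec f hU e).symm
    have h2 : ((Spec.map (f.appLE V U e) ≫ hV.fromSpec).stalkMap q).hom.Flat := by
      rw [Scheme.Hom.stalkMap_comp]
      have hiso : ∀ z : Spec Γ(S, V), IsIso (hV.fromSpec.stalkMap z) := fun z => inferInstance
      exact (@FlatLocus.flat_isIso_comp _ _ _ _ (hiso _) _).2 hflat
    rw [← hsq, Scheme.Hom.stalkMap_comp] at h2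
    exact (FlatLocus.flat_comp_isIso _ _).1 h2
  have h3 := key _ h
  rwa [hU.fromSpec_primeIdealOf] at h3

/-- Flatness along a relative quasi-regular immersion at a point with Noetherian local ring. -/
theorem flat_stalkMap_of_quasi (f : X ⟶ S) (i : Z ⟶ X)
    (hi : RegImm.IsRelRegularImmersion RegImm.Kind.quasi f i) (z : Z)
    [IsNoetherianRing (X.presheaf.stalk (i z))] : (f.stalkMap (i z)).hom.Flat := by
  obtain ⟨U₀, g, ⟨V, hV⟩, e, rs, hzU, hrs, hflat, hmem⟩ := exists_flat_chart _ f i hi z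
  have hU : IsAffineOpen (X.basicOpen g) := U₀.2.basicOpen g
  letI : Algebra Γ(S, V) Γ(X, X.basicOpen g) := (f.appLE V (X.basicOpen g) e).hom.toAlgebra
  letI : Algebra Γ(X, U₀.1) Γ(X, X.basicOpen g) :=
    (X.presheaf.map (homOfLE (X.basicOpen_le g)).op).hom.toAlgebra
  haveI : IsLocalization.Away g Γ(X, X.basicOpen g) := U₀.2.isLocalization_basicOpen g
  let Q := (hU.primeIdealOf ⟨i z, hzU⟩).asIdeal
  let A := Γ(X, X.basicOpen g)
  let B := Localization.AtPrime Q
  letI := X.presheaf.algebra_section_stalk (⟨i z, hzU⟩ : X.basicOpen g)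
  haveI : IsLocalization.AtPrime (X.presheaf.stalk (i z)) Q := hU.isLocalization_stalk ⟨i z, hzU⟩
  haveI : IsNoetherianRing B :=
    isNoetherianRing_of_ringEquiv (X.presheaf.stalk (i z))
      (IsLocalization.algEquiv Q.primeCompl (X.presheaf.stalk (i z)) B).toRingEquiv
  have hq : CAlgX.IsQuasiRegular fun j : Fin rs.length => algebraMap Γ(X, U₀.1) A (rs.get j) :=
    QRegBC.isQuasiRegular_localization (R := A) (Submonoid.powers g) rs.get hrs
  haveI : Module.Flat Γ(S, V) B := flat_atPrime_of_quasi _ hq hflat Q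
    (fun j => mem_primeIdealOf_of_mem_ker i hU z hzU _ (hmem j)) B
  refine flat_stalkMap_of_spec f hV hU e (i z) hzU ?_
  refine (FlatLocus.stalkMap_flat_SpecMap (f.appLE V (X.basicOpen g) e) _).2 ?_
  exact Module.Flat.of_linearEquiv
    ((IsLocalizedModule.iso Q.primeCompl (Algebra.linearMap A B)).restrictScalars Γ(S, V))

/-- Flatness along a relative H1-regular immersion into a scheme locally of finite presentation. -/
theorem flat_stalkMap_of_h1 (f : X ⟶ S) [LocallyOfFinitePresentation f] (i : Z ⟶ X)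
    (hi : RegImm.IsRelRegularImmersion RegImm.Kind.h1 f i) (z : Z) : (f.stalkMap (i z)).hom.Flat := by
  obtain ⟨U₀, g, ⟨V, hV⟩, e, rs, hzU, hrs, hflat, hmem⟩ := exists_flat_chart _ f i hi z
  have hU : IsAffineOpen (X.basicOpen g) := U₀.2.basicOpen g
  letI : Algebra Γ(S, V) Γ(X, X.basicOpen g) := (f.appLE V (X.basicOpen g) e).hom.toAlgebra
  haveI : Algebra.FinitePresentation Γ(S, V) Γ(X, X.basicOpen g) :=
    HasRingHomProperty.appLE @LocallyOfFinitePresentation f inferInstance ⟨V, hV⟩ ⟨_, hU⟩ e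
  letI : Algebra Γ(X, U₀.1) Γ(X, X.basicOpen g) :=
    (X.presheaf.map (homOfLE (X.basicOpen_le g)).op).hom.toAlgebra
  haveI : IsLocalization.Away g Γ(X, X.basicOpen g) := U₀.2.isLocalization_basicOpen g
  haveI : Module.Flat Γ(X, U₀.1) Γ(X, X.basicOpen g) := IsLocalization.flat _ (Submonoid.powers g)
  have hh : CAlgX.IsH1Regular fun j : Fin rs.length =>
      algebraMap Γ(X, U₀.1) Γ(X, X.basicOpen g) (rs.get j) := RegKinds.h1_flat hrs
  exact flat_stalkMap_of_spec f hV hU e (i z) hzU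
    (flat_stalk_of_h1 _ hh hflat (hU.primeIdealOf ⟨i z, hzU⟩)
      fun j => mem_primeIdealOf_of_mem_ker i hU z hzU _ (hmem j))

/-- Relative H1-regular immersions are universally regular, with a flat neighbourhood. -/
theorem relH1_props (f : X ⟶ S) [LocallyOfFinitePresentation f] (i : Z ⟶ X)
    (hi : RegImm.IsRelRegularImmersion RegImm.Kind.h1 f i) :
    (∃ U : X.Opens, Set.range (fun z : ↥Z => i z) ⊆ (U : Set ↥X) ∧ Flat (U.ι ≫ f)) ∧
      RegImm.IsRegularImmersion RegImm.Kind.regular i ∧ ∀ (S' : Scheme.{u}) (g : S' ⟶ S),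
        RegImm.IsRegularImmersion RegImm.Kind.regular (pullback.snd i (pullback.fst f g)) := by
  have hq : RegImm.IsRelRegularImmersion RegImm.Kind.quasi f i := by
    refine ⟨⟨hi.1.1, fun z => ?_⟩, hi.2⟩
    obtain ⟨U, hzU, hci, rs, hrs, hker⟩ := hi.1.2 z
    exact ⟨U, hzU, hci, rs, quasi_of_seq RegImm.Kind.h1 rs hrs, hker⟩
  refine ⟨⟨⟨{x | (f.stalkMap x).hom.Flat}, FlatLocus.isOpen_flat_locus f⟩, ?_, ?_⟩,
    regular_of_relQuasi' f i hq (flat_stalkMap_of_h1 f i hi)⟩
  · rintro _ ⟨z, rfl⟩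
    exact flat_stalkMap_of_h1 f i hi z
  · exact Flat.of_stalkMap _ fun y => (FibFlat.flat_stalk_open_comp _ f y).2 y.2

end Groth.Agent.FlatX
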