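import Mathlib
import Groth.Prelude.Def_CInt
import Groth.Prelude.Def_Mor2
import Groth.Agent.FlatX.RelQuasi
import Groth.Agent.KRegLib.CIMor
import Groth.Agent.KRegLib.Pres

/-!
A syntomic closed subscheme of a smooth scheme is regularly immersed.
-/

set_option autoImplicit false
set_option linter.style.haveILetI false
set_option backward.isDefEq.respectTransparency.types false

universe u

open CategoryTheory AlgebraicGeometry
open Groth.Agent.KRegLib

namespace Groth.Agent.FlatX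

/-- A closed immersion which is regular at all points is a regular closed immersion. -/
theorem regClosed_of_regImm {Z X : Scheme.{u}} (i : Z ⟶ X) [IsClosedImmersion i]
    (h : RegImm.IsRegularImmersion RegImm.Kind.regular i) : Mor2.IsRegularClosedImmersion i := by
  refine ⟨inferInstance, fun z => ?_⟩
  obtain ⟨U, hzU, -, rs, hrs, hker⟩ := h.2 z
  exact ⟨U.1, U.2, hzU, rs, hrs, (Scheme.Hom.ker_apply i U).trans hker⟩

/-- A syntomic closed subscheme of a smooth scheme is regularly immersed. -/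
theorem regClosed_of_syntomic {X Y S : Scheme.{u}} (p : X ⟶ S) [Smooth p] (i : Y ⟶ X) [IsClosedImmersion i]
    (hY : CInt.IsCIMorphism (i ≫ p)) : Mor2.IsRegularClosedImmersion i := by
  haveI := hY.1
  have hsyn := (isCIMorphism_iff_isSyntomicMor (i ≫ p)).1 hY
  haveI := lfp_of_isSyntomicMor _ hsyn
  have hlci : IsLCI' (i ≫ p) :=
    (forall_isKoszulAt_iff _).1 ((Synt29.flat_and_isKoszulAt_iff (i ≫ p)).2 hsyn).2
  refine regClosed_of_regImm i (regular_of_relQuasi p i ⟨⟨inferInstance, fun z => ?_⟩, inferInstance⟩).1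
  obtain ⟨V, hV, hzV, -⟩ := exists_isAffineOpen_mem_and_subset (X := S) (x := p (i z)) (U := ⊤) trivial
  obtain ⟨D, hD, hzD, hDV⟩ := exists_isAffineOpen_mem_and_subset (X := X) (x := i z) (U := p ⁻¹ᵁ V) hzV
  replace hDV : D ≤ p ⁻¹ᵁ V := hDV
  haveI : IsClosedImmersion (i ∣_ D) := inferInstance
  obtain ⟨hD', hDs⟩ := Synt29.surjective_app_of_isClosedImmersion_restrict i D hD
  letI : Algebra Γ(S, V) Γ(X, D) := (p.appLE V D hDV).hom.toAlgebra
  haveI : Algebra.Smooth Γ(S, V) Γ(X, D) := p.smooth_appLE hV hD hDV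
  have e' : i ⁻¹ᵁ D ≤ (i ≫ p) ⁻¹ᵁ V := fun _ hy => hDV hy
  letI : Algebra Γ(S, V) Γ(Y, i ⁻¹ᵁ D) := ((i ≫ p).appLE V (i ⁻¹ᵁ D) e').hom.toAlgebra
  let π : Γ(X, D) →ₐ[Γ(S, V)] Γ(Y, i ⁻¹ᵁ D) :=
    { toRingHom := (i.app D).hom
      commutes' := fun w => by
        show i.app D (p.appLE V D hDV w) = (i ≫ p).appLE V (i ⁻¹ᵁ D) e' w
        rw [show (i ≫ p).appLE V (i ⁻¹ᵁ D) e' = p.appLE V D hDV ≫ i.app D by
          rw [Scheme.Hom.app_eq_appLE, Scheme.Hom.appLE_comp_appLE]]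
        rfl }
  have hK := kReg_of_isLCI ((isLCI'_iff _).1 hlci _ _ hD' hV e') π hDs (hD'.primeIdealOf ⟨z, hzD⟩).asIdeal
  have hc : (hD'.primeIdealOf ⟨z, hzD⟩).asIdeal.comap π.toRingHom = (hD.primeIdealOf ⟨i z, hzD⟩).asIdeal := by
    show (hD'.primeIdealOf ⟨z, hzD⟩).asIdeal.comap (i.app D).hom = _
    rw [show (i.app D).hom = (i.appLE D (i ⁻¹ᵁ D) le_rfl).hom by rw [Scheme.Hom.app_eq_appLE]]
    exact congrArg PrimeSpectrum.asIdeal
      (IsAffineOpen.comap_primeIdealOf_appLE (f := i) D hD (i ⁻¹ᵁ D) hD' le_rfl hzD)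
  rw [hc] at hK
  obtain ⟨g, hg, hon⟩ := hK.exists_on
  letI : Algebra Γ(X, D) Γ(X, X.basicOpen g) := (X.presheaf.map (homOfLE (X.basicOpen_le g)).op).hom.toAlgebra
  haveI : IsLocalization.Away g Γ(X, X.basicOpen g) := hD.isLocalization_basicOpen g
  haveI : Module.Flat Γ(X, D) Γ(X, X.basicOpen g) := IsLocalization.flat _ (Submonoid.powers g)
  obtain ⟨l, hl, hIl⟩ := (kRegOn_iff_exists_list _ Γ(X, X.basicOpen g)).1
    (hon _ (IsLocalization.Away.algebraMap_isUnit g))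
  have hzg : i z ∈ X.basicOpen g := by
    rw [← hD.fromSpec_image_basicOpen g]
    exact ⟨hD.primeIdealOf ⟨i z, hzD⟩, hg, hD.fromSpec_primeIdealOf _⟩
  exact ⟨⟨X.basicOpen g, hD.basicOpen g⟩, hzg, inferInstance, l, quasi_of_seq RegImm.Kind.koszul l hl,
    (app_basicOpen_props i hD hD' hDs g).2.2.trans hIl⟩

end Groth.Agent.FlatX
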