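import Mathlib
import Groth.Prelude.Def_CInt
import Groth.Agent.FlatX.FibreQuasi
import Groth.Agent.FlatX.RelQuasiFlat
import Groth.Agent.FlatX.SyntSmooth
import Groth.Agent.RegKinds.Impl
import Groth.Agent.RegKinds.SmoothDescend

/-!
Regular closed immersions: flat base change, the fibrewise criterion, and lifts to smooth schemes.
-/

set_option autoImplicit false
set_option linter.style.haveILetI false
set_option backward.isDefEq.respectTransparency.types false

universe u

open CategoryTheory CategoryTheory.Limits AlgebraicGeometry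
open Groth.Agent.KRegLib Groth.Agent.RegImmLib

namespace Groth.Agent.FlatX

/-- A regular closed immersion as a regular immersion. -/
theorem regImm_of_regClosed {Z X : Scheme.{u}} {i : Z ⟶ X} (h : Mor2.IsRegularClosedImmersion i) :
    RegImm.IsRegularImmersion RegImm.Kind.regular i := by
  haveI := h.1
  refine ⟨inferInstance, fun z => ?_⟩
  obtain ⟨U, hU, hzU, rs, hrs, hker⟩ := h.2 z
  exact ⟨⟨U, hU⟩, hzU, inferInstance, rs, hrs, (Scheme.Hom.ker_apply i ⟨U, hU⟩).symm.trans hker⟩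

/-- Flat base change of a regular closed immersion. -/
theorem regClosed_baseChange_flat {X X' Y : Scheme.{u}} (f : Y ⟶ X) (g : X' ⟶ X) [Flat g]
    (hf : Mor2.IsRegularClosedImmersion f) : Mor2.IsRegularClosedImmersion (pullback.snd f g) := by
  haveI := hf.1
  exact regClosed_of_regImm _
    (RegKinds.isRegularImmersion_baseChange_all (IsPullback.of_hasPullback f g) (regImm_of_regClosed hf))

variable {X Y S : Scheme.{u}}

/-- The fibre map is a base change. -/
theorem isPullback_fiberMap (u : Y ⟶ X) (g : X ⟶ S) (s : S) :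
    IsPullback ((u ≫ g).fiberι s) (CInt.fiberMap u g s) u (g.fiberι s) :=
  (Triage.SliceFlat.isPullback_map u g (u ≫ g) (S.fromSpecResidueField s) (by simp) (by simp)).flip

/-- Regular immersions pass through isomorphic squares. -/
theorem regImm_iso_square {k : RegImm.Kind} {A A' B B' : Scheme.{u}} {i : A ⟶ B} {i' : A' ⟶ B'} {e : A' ⟶ A}
    {g : B' ⟶ B} [IsIso g] (hsq : IsPullback e i' i g) (h : RegImm.IsRegularImmersion k i) :
    RegImm.IsRegularImmersion k i' :=
  RegKinds.isRegularImmersion_baseChange_all hsq h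

/-- The fibrewise criterion for regular closed immersions. -/
theorem regClosed_fibrewise (u : Y ⟶ X) (g : X ⟶ S) [IsClosedImmersion u] [LocallyOfFinitePresentation g]
    [LocallyOfFinitePresentation (u ≫ g)] :
    (Flat (u ≫ g) ∧ Mor2.IsRegularClosedImmersion u) ↔
      ((∀ y : ↥Y, (g.stalkMap (u y)).hom.Flat) ∧ Flat (u ≫ g) ∧
        ∀ s : ↥S, Mor2.IsRegularClosedImmersion (CInt.fiberMap u g s)) := by
  constructor
  · rintro ⟨hfl, hu⟩
    haveI := hfl
    have h1 : RegImm.IsRelRegularImmersion RegImm.Kind.h1 g u :=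
      ⟨RegKinds.h1_of_koszul (RegKinds.koszul_of_regular (regImm_of_regClosed hu)), hfl⟩
    refine ⟨flat_stalkMap_of_h1 g u h1, hfl, fun s => ?_⟩
    have h2 : RegImm.IsRegularImmersion RegImm.Kind.regular
        (pullback.snd u (pullback.fst g (S.fromSpecResidueField s))) :=
      (relH1_props g u h1).2.2 _ (S.fromSpecResidueField s)
    haveI : IsClosedImmersion (CInt.fiberMap u g s) :=
      MorphismProperty.of_isPullback (P := @IsClosedImmersion) (isPullback_fiberMap u g s) inferInstance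
    refine regClosed_of_regImm _ ?_
    refine regImm_iso_square (e := (isPullback_fiberMap u g s).isoPullback.hom) (g := 𝟙 _) ?_ h2
    exact IsPullback.of_horiz_isIso ⟨by
      rw [Category.comp_id]; exact (isPullback_fiberMap u g s).isoPullback_hom_snd⟩
  · rintro ⟨hx, hfl, hfib⟩
    haveI := hfl
    refine ⟨hfl, ?_⟩
    let I := u.ker
    have hι : IsPullback u.toImage u I.subschemeι (𝟙 X) :=
      IsPullback.of_horiz_isIso ⟨by rw [Category.comp_id]; exact u.toImage_imageι⟩
    haveI : IsIso u.toImage := inferInstance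
    have hcomp : I.subschemeι ≫ g = inv u.toImage ≫ (u ≫ g) := by
      rw [IsIso.eq_inv_comp, ← Category.assoc]
      exact congrArg (· ≫ g) u.toImage_imageι
    haveI : Flat (I.subschemeι ≫ g) := by rw [hcomp]; infer_instance
    haveI : LocallyOfFinitePresentation (I.subschemeι ≫ g) := by rw [hcomp]; infer_instance
    have hfib' : ∀ s : ↥S, RegImm.IsRegularImmersion RegImm.Kind.quasi (pullback.snd I.subschemeι (g.fiberι s)) := by
      intro s
      haveI : IsLocallyNoetherian (g.fiber s) :=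
        LocallyOfFiniteType.isLocallyNoetherian (g.fiberToSpecResidueField s)
      have h3 := (isPullback_fiberMap u g s).paste_horiz hι
      simp only [Category.comp_id] at h3
      refine regImm_iso_square (e := h3.isoPullback.inv) (g := 𝟙 _) ?_
        (KRegLib.regImm_of_regImm RegImm.Kind.regular RegImm.Kind.quasi _ (regImm_of_regClosed (hfib s)))
      exact IsPullback.of_horiz_isIso ⟨by rw [Category.comp_id]; exact h3.isoPullback_inv_snd⟩
    have hq : RegImm.IsRegularImmersion RegImm.Kind.quasi I.subschemeι := by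
      refine ⟨inferInstance, fun z => regImmAt_of_fibre' g I hfib' z ?_⟩
      obtain ⟨y, rfl⟩ := u.toImage.surjective z
      have : I.subschemeι (u.toImage y) = u y := by
        rw [← Scheme.Hom.comp_apply]
        exact congrArg (fun φ : Y ⟶ X => φ y) u.toImage_imageι
      rw [this]
      exact hx y
    exact regClosed_of_regImm u
      (regular_of_relQuasi' g u ⟨regImm_iso_square hι hq, hfl⟩ hx).1

/-- Koszul regularity is unchanged by a lift to a smooth scheme. -/
theorem koszul_smooth_iff {X V V' : Scheme.{u}} (i : X ⟶ V) [IsImmersion i] (j : X ⟶ V') [IsImmersion j]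
    (p : V' ⟶ V) [Smooth p] (h : j ≫ p = i) :
    RegImm.IsRegularImmersion .koszul i ↔ RegImm.IsRegularImmersion .koszul j := by
  refine ⟨fun hi => ?_, fun hj => RegKinds.isRegularImmersion_of_smooth_lift (by simp) p j i h hj⟩
  refine ⟨inferInstance, fun y => (RegKinds.kindAt_iff (by simp) j y).2 ?_⟩
  have hiy : ∀ z, i z = p (j z) := fun z => by rw [← h]; rfl
  obtain ⟨U, hU, hyU, -, hcU⟩ := exists_affine_isClosedImmersion_restrict i y ⊤ trivial
  obtain ⟨W, hW, hyW, hWle, hcW⟩ := exists_affine_isClosedImmersion_restrict j y (p ⁻¹ᵁ U)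
    (show p (j y) ∈ U from (hiy y) ▸ hyU)
  obtain ⟨hiU, his⟩ := Synt29.surjective_app_of_isClosedImmersion_restrict i U hU
  obtain ⟨hjW, hjs⟩ := Synt29.surjective_app_of_isClosedImmersion_restrict j W hW
  obtain ⟨g, g', hgg, hyg⟩ := exists_basicOpen_le_affine_inter hiU hjW y ⟨hyU, hyW⟩
  obtain ⟨a, rfl⟩ := his g
  obtain ⟨b, rfl⟩ := hjs g'
  let U' := V.basicOpen a
  have hU' : IsAffineOpen U' := hU.basicOpen a
  let V0 := V'.basicOpen (p.appLE U W hWle a * b)
  have hV0 : IsAffineOpen V0 := hW.basicOpen _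
  have hV0eq : V0 = (W ⊓ p ⁻¹ᵁ U') ⊓ V'.basicOpen b := by
    show V'.basicOpen _ = _
    rw [Scheme.basicOpen_mul, Scheme.basicOpen_appLE]
  have hle0 : V0 ≤ p ⁻¹ᵁ U' := hV0eq.trans_le (inf_le_left.trans inf_le_right)
  have hiU' : i ⁻¹ᵁ U' = X.basicOpen (i.app U a) := Scheme.preimage_basicOpen i a
  have hpre : j ⁻¹ᵁ V0 = i ⁻¹ᵁ U' := by
    refine le_antisymm (fun z hz => ?_) (fun z hz => ?_)
    · show i z ∈ U'
      rw [hiy]
      exact hle0 hz
    · have h1 : z ∈ j ⁻¹ᵁ V'.basicOpen b := by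
        rw [Scheme.preimage_basicOpen j b, ← hgg, ← hiU']
        exact hz
      show j z ∈ V0
      rw [hV0eq]
      exact ⟨⟨V'.basicOpen_le b h1, show p (j z) ∈ U' by rw [← hiy]; exact hz⟩, h1⟩
  have hyV0 : j y ∈ V0 := by
    show y ∈ j ⁻¹ᵁ V0
    rw [hpre, hiU']
    exact hyg
  have hyU' : i y ∈ U' := by rw [hiy]; exact hle0 hyV0
  haveI : IsClosedImmersion (j ∣_ V0) := isClosedImmersion_restrict_of_le j (V'.basicOpen_le _)
  haveI : IsClosedImmersion (i ∣_ U') := isClosedImmersion_restrict_of_le i (V.basicOpen_le a)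
  obtain ⟨hjV0, hjV0s⟩ := Synt29.surjective_app_of_isClosedImmersion_restrict j V0 hV0
  obtain ⟨hiU'', hiU's⟩ := Synt29.surjective_app_of_isClosedImmersion_restrict i U' hU'
  letI : Algebra Γ(V, U') Γ(V', V0) := (p.appLE U' V0 hle0).hom.toAlgebra
  haveI : Algebra.Smooth Γ(V, U') Γ(V', V0) := p.smooth_appLE hU' hV0 hle0
  letI : Algebra Γ(V, U') Γ(X, j ⁻¹ᵁ V0) := (i.appLE U' (j ⁻¹ᵁ V0) hpre.le).hom.toAlgebra
  obtain ⟨hRs, hRker⟩ := appLE_of_eq i U' (j ⁻¹ᵁ V0) hpre hpre.le
  have hR : Function.Surjective (algebraMap Γ(V, U') Γ(X, j ⁻¹ᵁ V0)) := hRs hiU's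
  have hcomp : p.appLE U' V0 hle0 ≫ j.app V0 = i.appLE U' (j ⁻¹ᵁ V0) hpre.le := by
    subst h
    rw [Scheme.Hom.app_eq_appLE, Scheme.Hom.appLE_comp_appLE]
  let Φ : Γ(V', V0) →ₐ[Γ(V, U')] Γ(X, j ⁻¹ᵁ V0) :=
    ⟨(j.app V0).hom, fun x => congr(($hcomp) x)⟩
  let 𝔭 := (hV0.primeIdealOf ⟨j y, hyV0⟩).asIdeal
  have hq₀ : 𝔭.comap (algebraMap Γ(V, U') Γ(V', V0)) = (hU'.primeIdealOf ⟨i y, hyU'⟩).asIdeal := by
    have h1 := congrArg PrimeSpectrum.asIdeal
      (IsAffineOpen.comap_primeIdealOf_appLE (f := p) U' hU' V0 hV0 hle0 hyV0)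
    refine h1.trans ?_
    simp only [hiy y]
  have hnearI := RegKinds.nearK_of_kindAt i y ((RegKinds.kindAt_iff (by simp) i y).1 (hi.2 y)) hU' hyU'
  rw [← hRker, ← hq₀] at hnearI
  have hnearJ : KReg (RingHom.ker Φ.toRingHom) 𝔭 :=
    (kReg_smooth_iff hR Φ 𝔭 (ker_app_le_primeIdealOf j hV0 hjV0 y hyV0)).2 hnearI
  obtain ⟨γ, hγ, hon⟩ := hnearJ.exists_on
  letI : Algebra Γ(V', V0) Γ(V', V'.basicOpen γ) := (V'.presheaf.map (homOfLE (V'.basicOpen_le γ)).op).hom.toAlgebra
  haveI : IsLocalization.Away γ Γ(V', V'.basicOpen γ) := hV0.isLocalization_basicOpen γ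
  haveI : Module.Flat Γ(V', V0) Γ(V', V'.basicOpen γ) := IsLocalization.flat _ (Submonoid.powers γ)
  obtain ⟨m, fs, hfs, hfsI⟩ := hon Γ(V', V'.basicOpen γ) (IsLocalization.Away.algebraMap_isUnit γ)
  have hyγ : j y ∈ V'.basicOpen γ := by
    rw [← hV0.fromSpec_image_basicOpen γ]
    exact ⟨hV0.primeIdealOf ⟨j y, hyV0⟩, hγ, hV0.fromSpec_primeIdealOf _⟩
  exact ⟨V'.basicOpen γ, hV0.basicOpen γ, hyγ, isClosedImmersion_restrict_of_le j (V'.basicOpen_le γ),
    m, fs, hfs, (app_basicOpen_props j hV0 hjV0 hjV0s γ).2.2.trans hfsI⟩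

end Groth.Agent.FlatX
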