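import Mathlib
import Groth.Agent.FlatX.H1Flat
import Groth.Agent.RegKinds.Imm

/-!
Relative H1-regular and quasi-regular immersions are stable under every base change.
-/

set_option autoImplicit false
set_option linter.style.haveILetI false
set_option backward.isDefEq.respectTransparency.types false

universe u

open CategoryTheory CategoryTheory.Limits AlgebraicGeometry TensorProduct
open Groth.Agent.KRegLib Groth.Agent.RegImmLib Groth.Agent.RegKinds

namespace Groth.Agent.FlatX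

/-- The two stable kinds of sequences survive base change when the quotient is flat. -/
theorem seqP_baseChange {O O' A A' : Type u} [CommRing O] [CommRing O'] [CommRing A] [CommRing A'] [Algebra O O']
    [Algebra O A] [Algebra O' A'] [Algebra A A'] [Algebra O A'] [IsScalarTower O O' A'] [IsScalarTower O A A']
    [Algebra.IsPushout O O' A A'] {k : RegImm.Kind} (hk : k = RegImm.Kind.h1 ∨ k = RegImm.Kind.quasi)
    {n : ℕ} (f : Fin n → A) (hf : SeqP k f) (hflat : Module.Flat O (A ⧸ Ideal.span (Set.range f))) :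
    SeqP k fun i => algebraMap A A' (f i) := by
  let e := Algebra.IsPushout.equiv O O' A A'
  have he : ∀ s : A, e ((1 : O') ⊗ₜ[O] s) = algebraMap A A' s := fun s => by
    rw [Algebra.IsPushout.equiv_tmul, map_one, one_mul]
  have h1 : SeqP k fun i => ((1 : O') ⊗ₜ[O] f i : O' ⊗[O] A) := by
    rcases hk with rfl | rfl
    · refine h1_baseChange O' f hflat fun k hk => ?_
      rw [Submodule.mkQ_apply, (Submodule.Quotient.mk_eq_zero (trivRel f)).2 (hf k hk), TensorProduct.tmul_zero]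
    · haveI := hflat
      exact QRegBC.isQuasiRegular_baseChange (A := O) f O' hf
  have h2 := seqP_ringEquiv e.toRingEquiv h1
  convert h2 using 1
  funext i
  exact (he (f i)).symm

variable {Z X S : Scheme.{u}}

/-- A chart of an immersion with flat source. -/
theorem exists_kind_flat_chart (k : RegImm.Kind) (hk : k ≠ .regular) (f : X ⟶ S) (i : Z ⟶ X)
    (hi : RegImm.IsRelRegularImmersion k f i) (z : Z) :
    ∃ (U : X.Opens) (_ : IsAffineOpen U) (V : S.Opens) (_ : IsAffineOpen V) (e : U ≤ f ⁻¹ᵁ V),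
      i z ∈ U ∧ IsClosedImmersion (i ∣_ U) ∧ ∃ (n : ℕ) (l : Fin n → Γ(X, U)), SeqP k l ∧
        RingHom.ker (i.app U).hom = Ideal.span (Set.range l) ∧
        (letI := (f.appLE V U e).hom.toAlgebra
         Module.Flat Γ(S, V) (Γ(X, U) ⧸ Ideal.span (Set.range l))) := by
  obtain ⟨U, hU, hzU, hci, n, l, hl, hker⟩ := (kindAt_iff hk i z).1 (hi.1.2 z)
  haveI := hi.2
  obtain ⟨V, hV, hzV, -⟩ := exists_isAffineOpen_mem_and_subset (X := S) (x := f (i z)) (U := ⊤) trivial
  obtain ⟨g₁, hg₁, hzg₁⟩ := hU.exists_basicOpen_le (V := f ⁻¹ᵁ V) ⟨i z, hzV⟩ hzU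
  obtain ⟨hU', hUs⟩ := Synt29.surjective_app_of_isClosedImmersion_restrict i U hU
  let U₁ := X.basicOpen g₁
  obtain ⟨hs₁, hU₁', -⟩ := app_basicOpen_props i hU hU' hUs g₁
  obtain ⟨l₁, hl₁, hker₁⟩ := restrict_basicOpen' i g₁ hl hker hU
  haveI := isClosedImmersion_restrict_of_le i (X.basicOpen_le g₁)
  refine ⟨U₁, hU.basicOpen g₁, V, hV, hg₁, hzg₁, inferInstance, n, l₁, hl₁, hker₁, ?_⟩
  let O := Γ(S, V)
  let A := Γ(X, U₁)
  letI : Algebra O A := (f.appLE V U₁ hg₁).hom.toAlgebra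
  have e' : i ⁻¹ᵁ U₁ ≤ (i ≫ f) ⁻¹ᵁ V := fun _ hy => hg₁ hy
  letI : Algebra O Γ(Z, i ⁻¹ᵁ U₁) := ((i ≫ f).appLE V (i ⁻¹ᵁ U₁) e').hom.toAlgebra
  haveI : Module.Flat O Γ(Z, i ⁻¹ᵁ U₁) := RingHom.flat_algebraMap_iff.1
    (HasRingHomProperty.appLE @Flat (i ≫ f) inferInstance ⟨V, hV⟩ ⟨_, hU₁'⟩ e')
  let π : A →ₐ[O] Γ(Z, i ⁻¹ᵁ U₁) :=
    { toRingHom := (i.app U₁).hom
      commutes' := fun w => by
        show i.app U₁ (f.appLE V U₁ hg₁ w) = (i ≫ f).appLE V (i ⁻¹ᵁ U₁) e' w
        rw [show (i ≫ f).appLE V (i ⁻¹ᵁ U₁) e' = f.appLE V U₁ hg₁ ≫ i.app U₁ by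
          rw [Scheme.Hom.app_eq_appLE, Scheme.Hom.appLE_comp_appLE]]
        rfl }
  exact Module.Flat.of_linearEquiv ((Ideal.quotientEquivAlgOfEq O
    (show Ideal.span (Set.range l₁) = RingHom.ker π from hker₁.symm)).trans
    (Ideal.quotientKerAlgEquivOfSurjective (f := π) hs₁)).toLinearEquiv

/-- The base change at a point. -/
theorem kindAt_baseChange_of_chart (k : RegImm.Kind) (hk : k = RegImm.Kind.h1 ∨ k = RegImm.Kind.quasi)
    (f : X ⟶ S) (i : Z ⟶ X) {S' : Scheme.{u}} (g : S' ⟶ S)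
    (hi : RegImm.IsRelRegularImmersion k f i) (z' : ↥(pullback i (pullback.fst f g))) :
    KindAt k (pullback.snd i (pullback.fst f g)) z' := by
  have hk' : k ≠ .regular := by rcases hk with rfl | rfl <;> simp
  obtain ⟨U, hU, V, hV, e, hzU, hci, n, l, hl, hker, hfl⟩ :=
    exists_kind_flat_chart k hk' f i hi (pullback.fst i (pullback.fst f g) z')
  have hsq := IsPullback.of_hasPullback i (pullback.fst f g)
  let i' := pullback.snd i (pullback.fst f g)
  let x' := i' z'
  have hx : pullback.fst f g x' ∈ U := by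
    have h1 : pullback.fst f g x' = i (pullback.fst i (pullback.fst f g) z') :=
      (congrArg (fun φ : pullback i (pullback.fst f g) ⟶ X => φ z') hsq.w).symm
    rw [h1]
    exact hzU
  have hwV : g (pullback.snd f g x') ∈ V := by
    rw [← Scheme.Hom.comp_apply, ← pullback.condition, Scheme.Hom.comp_apply]
    exact e hx
  obtain ⟨W, hW, hwW, hWle⟩ := exists_isAffineOpen_mem_and_subset (X := S') (x := pullback.snd f g x')
    (U := g ⁻¹ᵁ V) hwV
  replace hWle : W ≤ g ⁻¹ᵁ V := hWle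
  let U' := pullback.fst f g ⁻¹ᵁ U ⊓ pullback.snd f g ⁻¹ᵁ W
  haveI := isIso_pushoutSection_of_isAffineOpen (IsPullback.of_hasPullback f g) hWle e (UY := U') rfl hV hW hU
  have hU' : IsAffineOpen U' := by
    have : IsAffine _ := hV
    have : IsAffine _ := hW
    have : IsAffine _ := hU
    exact .of_isIso (Scheme.Hom.isPullback_resLE (IsPullback.of_hasPullback f g) hWle e (UY := U') rfl).isoPullback.hom
  have sqR := (isIso_pushoutSection_iff (IsPullback.of_hasPullback f g) hWle e (UY := U') rfl).1 ‹_›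
  have hle : U' ≤ pullback.fst f g ⁻¹ᵁ U := inf_le_left
  have hzU' : x' ∈ U' := ⟨hx, hwW⟩
  obtain ⟨hUY, hUs⟩ := Synt29.surjective_app_of_isClosedImmersion_restrict i U hU
  have hUY' : i' ⁻¹ᵁ U' = pullback.fst i (pullback.fst f g) ⁻¹ᵁ (i ⁻¹ᵁ U) ⊓ i' ⁻¹ᵁ U' := by
    refine (inf_eq_right.2 fun y hy => ?_).symm
    show i (pullback.fst i (pullback.fst f g) y) ∈ U
    have h1 : i (pullback.fst i (pullback.fst f g) y) = pullback.fst f g (i' y) :=
      congrArg (fun φ : pullback i (pullback.fst f g) ⟶ X => φ y) hsq.w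
    rw [h1]
    exact hle hy
  have hpo := (isIso_pushoutSection_iff hsq hle le_rfl hUY').1
    (isIso_pushoutSection_of_isAffineOpen hsq hle le_rfl hUY' hU hU' hUY)
  have hs : Function.Surjective (i.appLE U (i ⁻¹ᵁ U) le_rfl) := by
    rw [← Scheme.Hom.app_eq_appLE]
    exact hUs
  have hk2 := RegImmLib.ker_of_isPushout hpo hs
  rw [← Scheme.Hom.app_eq_appLE, ← Scheme.Hom.app_eq_appLE] at hk2
  have hci' : IsClosedImmersion (i' ∣_ U') := by
    have h2 := Scheme.Hom.isPullback_resLE hsq hle le_rfl hUY'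
    have h3 : IsClosedImmersion (i.resLE U (i ⁻¹ᵁ U) le_rfl) := by
      rw [Scheme.Hom.resLE_eq_morphismRestrict]
      exact hci
    rw [← Scheme.Hom.resLE_eq_morphismRestrict]
    exact MorphismProperty.of_isPullback (P := @IsClosedImmersion) h2 h3
  let β := (pullback.fst f g).appLE U U' hle
  letI : Algebra Γ(S, V) Γ(X, U) := (f.appLE V U e).hom.toAlgebra
  letI : Algebra Γ(S, V) Γ(S', W) := (g.appLE V W hWle).hom.toAlgebra
  letI : Algebra Γ(X, U) Γ(pullback f g, U') := β.hom.toAlgebra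
  letI : Algebra Γ(S', W) Γ(pullback f g, U') := ((pullback.snd f g).appLE W U' inf_le_right).hom.toAlgebra
  letI : Algebra Γ(S, V) Γ(pullback f g, U') := (f.appLE V U e ≫ β).hom.toAlgebra
  haveI : IsScalarTower Γ(S, V) Γ(X, U) Γ(pullback f g, U') := IsScalarTower.of_algebraMap_eq fun _ => rfl
  haveI : IsScalarTower Γ(S, V) Γ(S', W) Γ(pullback f g, U') := IsScalarTower.of_algebraMap_eq fun r =>
    congrArg (fun k => k.hom r) sqR.w
  haveI : Algebra.IsPushout Γ(S, V) Γ(S', W) Γ(X, U) Γ(pullback f g, U') :=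
    CommRingCat.isPushout_iff_isPushout.1 sqR.flip
  refine ⟨U', hU', hzU', hci', n, fun j => algebraMap Γ(X, U) Γ(pullback f g, U') (l j),
    seqP_baseChange (O := Γ(S, V)) (O' := Γ(S', W)) hk l hl hfl, hk2.trans ?_⟩
  rw [hker, Ideal.map_span, ← Set.range_comp]
  rfl

/-- Stability under base change. -/
theorem isRelRegularImmersion_baseChange {S' : Scheme.{u}} (f : X ⟶ S) (i : Z ⟶ X) (k : RegImm.Kind)
    (hk : k = RegImm.Kind.h1 ∨ k = RegImm.Kind.quasi) (hi : RegImm.IsRelRegularImmersion k f i) (g : S' ⟶ S) :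
    RegImm.IsRelRegularImmersion k (pullback.snd f g) (pullback.snd i (pullback.fst f g)) := by
  have hk' : k ≠ .regular := by rcases hk with rfl | rfl <;> simp
  have hsq := IsPullback.of_hasPullback i (pullback.fst f g)
  exact ⟨⟨MorphismProperty.of_isPullback (P := @IsImmersion) hsq hi.1.1,
    fun z' => (kindAt_iff hk' _ z').2 (kindAt_baseChange_of_chart k hk f i g hi z')⟩,
    MorphismProperty.of_isPullback (P := @Flat) (hsq.paste_vert (IsPullback.of_hasPullback f g)) hi.2⟩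

end Groth.Agent.FlatX
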